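import Groth.Agent.H14GerbeCoh.Hom
import Groth.Prelude.Def_FibCat2

/-!
# Sections of the direct image along the structure functor
-/

set_option autoImplicit false
set_option backward.isDefEq.respectTransparency false
set_option backward.isDefEq.respectTransparency.types false

universe u

open CategoryTheory CategoryTheory.Functor CategoryTheory.Limits AlgebraicGeometry Opposite

noncomputable section

namespace Groth.Agent.H14MuCoh

open H14GerbeCoh

variable {S : Scheme.{u}} {K : Precoverage Scheme.{u}} {𝒢 : AlgSt.Cat S}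
  [StCoh.MorCocont K (FibCat.toSelf 𝒢)]

/-- The category `Over S` over itself. -/
abbrev self (S : Scheme.{u}) : AlgSt.Cat S := FibCat.selfOver (Over S)

/-- Direct image along the structure functor. -/
abbrev fPush (F : StCoh.Ab K 𝒢) : StCoh.Ab K (self S) := (StCoh.push K (FibCat.toSelf 𝒢)).obj F

/-- The family of sections given by a section of the direct image. -/
def toFam {F : StCoh.Ab K 𝒢} {T : Over S} (s : sec (fPush F) T) (ξ : 𝒢.obj) (h : 𝒢.p.obj ξ ⟶ T) :
    sec F ξ :=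
  (((FibCat.toSelf 𝒢).toFunctor.op.ranCounit.app F.obj).app (op ξ)).hom (res (fPush F) h s)

/-- The family as a homomorphism. -/
def toFamHom (F : StCoh.Ab K 𝒢) {T : Over S} (ξ : 𝒢.obj) (h : 𝒢.p.obj ξ ⟶ T) :
    sec (fPush F) T →+ sec F ξ :=
  (((FibCat.toSelf 𝒢).toFunctor.op.ranCounit.app F.obj).app (op ξ)).hom.comp (res (fPush F) h)

lemma toFamHom_apply {F : StCoh.Ab K 𝒢} {T : Over S} (ξ : 𝒢.obj) (h : 𝒢.p.obj ξ ⟶ T)
    (s : sec (fPush F) T) : toFamHom F ξ h s = toFam s ξ h := rfl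

lemma toFam_res {F : StCoh.Ab K 𝒢} {T T' : Over S} (g : T' ⟶ T) (s : sec (fPush F) T) (ξ : 𝒢.obj)
    (h : 𝒢.p.obj ξ ⟶ T') : toFam (res (fPush F) g s) ξ h = toFam s ξ (h ≫ g) := by
  simp only [toFam]
  exact congrArg _ (res_comp (fPush F) g h s).symm

lemma toFam_natural {F : StCoh.Ab K 𝒢} {T : Over S} (s : sec (fPush F) T) {ξ ζ : 𝒢.obj}
    (g : ζ ⟶ ξ) (h : 𝒢.p.obj ξ ⟶ T) : res F g (toFam s ξ h) = toFam s ζ (𝒢.p.map g ≫ h) := by
  simp only [toFam]
  refine (ConcreteCategory.congr_hom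
    (((FibCat.toSelf 𝒢).toFunctor.op.ranCounit.app F.obj).naturality g.op) _).symm.trans ?_
  exact congrArg _ (res_comp (fPush F) h (𝒢.p.map g) s).symm

lemma toFam_map {F G : StCoh.Ab K 𝒢} (f : F ⟶ G) {T : Over S} (s : sec (fPush F) T) (ξ : 𝒢.obj)
    (h : 𝒢.p.obj ξ ⟶ T) :
    toFam (app ((StCoh.push K (FibCat.toSelf 𝒢)).map f) T s) ξ h = app f ξ (toFam s ξ h) := by
  simp only [toFam]
  refine (congrArg _ (app_res ((StCoh.push K (FibCat.toSelf 𝒢)).map f) h s).symm).trans ?_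
  exact ConcreteCategory.congr_hom (congrArg (fun m => NatTrans.app m (op ξ))
    ((FibCat.toSelf 𝒢).toFunctor.op.ranCounit.naturality f.hom)) (res (fPush F) h s)

/-- Sections of the direct image over `T` are the natural families over `T`. -/
theorem existsUnique_toFam (F : StCoh.Ab K 𝒢) (T : Over S)
    (s : ∀ (ξ : 𝒢.obj), (𝒢.p.obj ξ ⟶ T) → sec F ξ)
    (hs : ∀ ⦃ξ ζ : 𝒢.obj⦄ (g : ζ ⟶ ξ) (h : 𝒢.p.obj ξ ⟶ T), res F g (s ξ h) = s ζ (𝒢.p.map g ≫ h)) :
    ∃! t : sec (fPush F) T, ∀ ξ h, toFam t ξ h = s ξ h := by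
  let L := (FibCat.toSelf 𝒢).toFunctor.op
  have hlim := L.isPointwiseRightKanExtensionRanCounit F.obj (op T)
  have hl := Types.isLimit_iff _ |>.1
    ⟨isLimitOfPreserves (CategoryTheory.forget AddCommGrpCat.{u + 1}) hlim⟩
  let σ : ∀ j : StructuredArrow (op T) L, F.obj.obj j.right := fun j =>
    s j.right.unop j.hom.unop
  obtain ⟨t, ht, huniq⟩ := hl σ (by
    intro j j' φ
    have hw : j.hom ≫ L.map φ.right = j'.hom := StructuredArrow.w φ
    change res F φ.right.unop (s j.right.unop j.hom.unop) = s j'.right.unop j'.hom.unop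
    rw [hs, ← hw]
    rfl)
  refine ⟨t, fun ξ h => ?_, fun t' ht' => huniq t' fun j => ?_⟩
  · exact ht (StructuredArrow.mk (Y := op ξ) h.op)
  · exact ht' j.right.unop j.hom.unop

lemma fPush_ext {F : StCoh.Ab K 𝒢} {T : Over S} {t t' : sec (fPush F) T}
    (h : ∀ ξ g, toFam t ξ g = toFam t' ξ g) : t = t' :=
  (existsUnique_toFam F T (fun ξ g => toFam t' ξ g)
    fun _ _ g q => toFam_natural t' g q).unique h fun _ _ => rfl

end Groth.Agent.H14MuCoh
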