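import Groth.Agent.H14GerbeCoh.Kummer
import Mathlib.RingTheory.Polynomial.Cyclotomic.Roots
import Mathlib.RingTheory.Ideal.Quotient.Basic
import Mathlib.Algebra.Ring.GeomSum

/-!
# Roots of cyclotomic polynomials on a scheme on which the order is invertible
-/

set_option autoImplicit false
set_option backward.isDefEq.respectTransparency false
set_option backward.isDefEq.respectTransparency.types false

universe u v

open CategoryTheory CategoryTheory.Limits AlgebraicGeometry Opposite Polynomial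

noncomputable section

namespace Groth.Agent.H14MuCoh

/-- Being a root of the cyclotomic polynomial. -/
abbrev Cyclo {R : Type v} [CommRing R] (n : ℕ) (ζ : R) : Prop := (cyclotomic n R).IsRoot ζ

variable {R : Type v} [CommRing R] {n : ℕ} {ζ : R}

lemma Cyclo.map {R' : Type v} [CommRing R'] (f : R →+* R') (h : Cyclo n ζ) : Cyclo n (f ζ) := by
  have := Polynomial.IsRoot.map (f := f) h
  rwa [map_cyclotomic] at this

lemma Cyclo.pow_eq_one (h : Cyclo n ζ) : ζ ^ n = 1 := by
  have := h.dvd (cyclotomic.dvd_X_pow_sub_one n R)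
  simpa [IsRoot, sub_eq_zero] using this

lemma Cyclo.primitive {K : Type v} [Field K] {ζ : K} (h : Cyclo n ζ) (hn : IsUnit (n : K)) :
    IsPrimitiveRoot ζ n :=
  haveI : NeZero (n : K) := ⟨hn.ne_zero⟩
  isRoot_cyclotomic_iff.1 h

lemma Cyclo.dvd_of_pow_eq_one [Nontrivial R] (h : Cyclo n ζ) (hn : IsUnit (n : R)) {i : ℕ}
    (hi : ζ ^ i = 1) : n ∣ i := by
  obtain ⟨m, hm⟩ := Ideal.exists_maximal R
  letI := Ideal.Quotient.field m
  let q := Ideal.Quotient.mk m
  have hp := Cyclo.primitive (h.map q) (by simpa using hn.map q)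
  rw [← hp.pow_eq_one_iff_dvd, ← map_pow, hi, map_one]

/-- In a local ring the `n`-th roots of unity are the powers of a cyclotomic root. -/
lemma Cyclo.exists_eq_pow [IsLocalRing R] (h : Cyclo n ζ) (hn : IsUnit (n : R)) (hn0 : 0 < n)
    {u : R} (hu : u ^ n = 1) : ∃ i < n, u = ζ ^ i := by
  let q := IsLocalRing.residue R
  have hp := Cyclo.primitive (h.map q) (by simpa using hn.map q)
  haveI : NeZero n := ⟨hn0.ne'⟩
  obtain ⟨i, hi, hiu⟩ := hp.eq_pow_of_pow_eq_one (ξ := q u) (by rw [← map_pow, hu, map_one])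
  refine ⟨i, hi, ?_⟩
  let v := u * ζ ^ (n - i)
  have hv : v ^ n = 1 := by
    rw [mul_pow, hu, ← pow_mul, mul_comm (n - i), pow_mul, h.pow_eq_one, one_pow, one_mul]
  have hv1 : q v = 1 := by
    rw [map_mul, ← hiu, map_pow, ← pow_add, Nat.add_sub_cancel' hi.le, hp.pow_eq_one]
  have hsum : IsUnit (∑ j ∈ Finset.range n, v ^ j) := by
    refine (isUnit_map_iff q _).1 ?_
    simp only [map_sum, map_pow, hv1, one_pow, Finset.sum_const, Finset.card_range, nsmul_one]
    simpa using hn.map q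
  have h0 := geom_sum_mul v n
  rw [hv, sub_self, hsum.mul_right_eq_zero, sub_eq_zero] at h0
  calc u = u * (ζ ^ (n - i) * ζ ^ i) := by
          rw [← pow_add, Nat.sub_add_cancel hi.le, h.pow_eq_one, mul_one]
    _ = v * ζ ^ i := (mul_assoc _ _ _).symm
    _ = ζ ^ i := by rw [h0, one_mul]

/-- A cyclotomic root as a unit. -/
def Cyclo.unit (h : Cyclo n ζ) (hn : 0 < n) : Rˣ :=
  (IsUnit.of_pow_eq_one h.pow_eq_one hn.ne').unit

lemma Cyclo.val_unit (h : Cyclo n ζ) (hn : 0 < n) : (h.unit hn : R) = ζ := IsUnit.unit_spec _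

lemma Cyclo.unit_pow (h : Cyclo n ζ) (hn : 0 < n) : h.unit hn ^ n = 1 :=
  Units.ext (by rw [Units.val_pow_eq_pow_val, h.val_unit hn, Units.val_one, h.pow_eq_one])

variable {T : Scheme.{u}}

lemma isUnit_natCast_res {T' : Scheme.{u}} (f : T' ⟶ T) (hn : IsUnit (n : Γ(T, ⊤))) :
    IsUnit (n : Γ(T', ⊤)) := by
  simpa using hn.map f.appTop.hom

/-- An `n`-th root of unity is locally a power of a cyclotomic root. -/
lemma exists_local_log {ζ u : Γ(T, ⊤)} (h : Cyclo n ζ) (hn : IsUnit (n : Γ(T, ⊤))) (hn0 : 0 < n)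
    (hu : u ^ n = 1) (t : T) :
    ∃ U : T.Opens, t ∈ U ∧ ∃ i < n, U.ι.appTop u = U.ι.appTop (ζ ^ i) := by
  let g := (T.presheaf.germ ⊤ t trivial).hom
  obtain ⟨i, hi, e⟩ := (h.map g).exists_eq_pow (by simpa using hn.map g) hn0
    (u := g u) (by rw [← map_pow, hu, map_one])
  rw [← map_pow] at e
  obtain ⟨W, hW, iU, iV, hW'⟩ := TopCat.Presheaf.germ_eq (U := (⊤ : T.Opens)) (V := (⊤ : T.Opens))
    T.presheaf t trivial trivial u (ζ ^ i) e
  refine ⟨W, hW, i, hi, ?_⟩
  rw [show iV = iU from Subsingleton.elim _ _] at hW'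
  let W : T.Opens := W
  have h2 : W.ι.appTop = T.presheaf.map iU.op ≫ T.presheaf.map (eqToHom W.ι_image_top).op := by
    refine (Scheme.Opens.ι_appTop W).trans ?_
    rw [← Functor.map_comp]
    rfl
  rw [h2]
  exact congrArg (T.presheaf.map (eqToHom W.ι_image_top).op) hW'

/-- A cyclotomic root exists after an fppf covering. -/
lemma exists_cyclo_member {S : Scheme.{u}} (T : Over S) {n : ℕ} (hn : 0 < n) (z : T.left) :
    ∃ (V : Over S) (c : V ⟶ T) (r : Γ(V.left, ⊤)),
      Flat c.left ∧ LocallyOfFinitePresentation c.left ∧ z ∈ Set.range c.left ∧ Cyclo n r := by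
  obtain ⟨_, ⟨(O : T.left.Opens), hO, rfl⟩, hz, -⟩ :=
    T.left.isBasis_affineOpens.exists_subset_of_mem_open (Set.mem_univ z) isOpen_univ
  replace hO : IsAffineOpen O := hO
  haveI : Nontrivial Γ(T.left, O) :=
    haveI : Nonempty O := ⟨⟨z, hz⟩⟩
    inferInstance
  let f : Polynomial Γ(T.left, O) := cyclotomic n _
  have hf : f.Monic := cyclotomic.monic n _
  have hd : 0 < f.natDegree := by
    rw [natDegree_cyclotomic]
    exact Nat.totient_pos.2 hn
  haveI : Module.Free Γ(T.left, O) (AdjoinRoot f) := hf.free_adjoinRoot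
  haveI : Module.Finite Γ(T.left, O) (AdjoinRoot f) := hf.finite_adjoinRoot
  let alg := CommRingCat.ofHom (algebraMap Γ(T.left, O) (AdjoinRoot f))
  haveI : IsOpenImmersion hO.fromSpec := hO.isOpenImmersion_fromSpec
  haveI : Flat (Spec.map alg) := (HasRingHomProperty.Spec_iff (P := @Flat)).mpr
    (RingHom.flat_algebraMap_iff.2 inferInstance)
  haveI : LocallyOfFinitePresentation (Spec.map alg) :=
    (HasRingHomProperty.Spec_iff (P := @LocallyOfFinitePresentation)).mpr
      (RingHom.finitePresentation_algebraMap.2 inferInstance)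
  let π : Spec (CommRingCat.of (AdjoinRoot f)) ⟶ T.left := Spec.map alg ≫ hO.fromSpec
  let ψ : AdjoinRoot f →+* Γ(Spec (CommRingCat.of (AdjoinRoot f)), ⊤) :=
    (Scheme.ΓSpecIso (CommRingCat.of (AdjoinRoot f))).inv.hom
  refine ⟨Over.mk (π ≫ T.hom), Over.homMk π rfl, ψ (AdjoinRoot.root f), inferInstanceAs (Flat π),
    inferInstanceAs (LocallyOfFinitePresentation π), ?_, ?_⟩
  · obtain ⟨q, hq⟩ : z ∈ Set.range hO.fromSpec := hO.range_fromSpec.ge hz
    obtain ⟨w, rfl⟩ := H18Et.RootCover.spec_map_surjective hf hd q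
    exact ⟨w, (Scheme.Hom.comp_apply _ _ _).trans hq⟩
  · refine Cyclo.map ψ ?_
    have := AdjoinRoot.isRoot_root f
    rwa [map_cyclotomic] at this

end Groth.Agent.H14MuCoh
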