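import Groth.Agent.H14MuCoh.Neutral
import Groth.Agent.H14MuCoh.Roots
import Groth.Agent.H14MuCoh.Push

/-!
# Charts over the base and descent of invariant sections
-/

set_option autoImplicit false
set_option backward.isDefEq.respectTransparency false
set_option backward.isDefEq.respectTransparency.types false

universe u

open CategoryTheory CategoryTheory.Functor CategoryTheory.Limits AlgebraicGeometry Opposite

noncomputable section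

namespace Groth.Agent.H14MuCoh

open H14Fib H14Stk H14GerbeCoh

variable {X : Scheme.{u}} {𝒢 : AlgSt.Cat X} {n : ℕ}

local notation "K₀" => Scheme.fppfPrecoverage

lemma isUnit_natCast_obj (hinv : IsUnit (n : Γ(X, ⊤))) (T : Over X) :
    IsUnit (n : Γ(T.left, ⊤)) :=
  isUnit_natCast_res T.hom hinv

/-- The powers of an endomorphism. -/
def pw {η : 𝒢.obj} (σ : η ⟶ η) : ℕ → (η ⟶ η)
  | 0 => 𝟙 η
  | i + 1 => pw σ i ≫ σ

lemma pw_map {η : 𝒢.obj} {σ : η ⟶ η} (h : 𝒢.p.map σ = 𝟙 _) :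
    ∀ i, 𝒢.p.map (pw σ i) = 𝟙 _
  | 0 => 𝒢.p.map_id η
  | i + 1 => by rw [pw, Functor.map_comp, pw_map h i, h, Category.id_comp]

lemma comp_pw {η η' : 𝒢.obj} {σ : η ⟶ η} {σ' : η' ⟶ η'} {g : η' ⟶ η} (h : σ' ≫ g = g ≫ σ) :
    ∀ i, pw σ' i ≫ g = g ≫ pw σ i
  | 0 => (Category.id_comp g).trans (Category.comp_id g).symm
  | i + 1 => by rw [pw, pw, Category.assoc, h, reassoc_of% (comp_pw h i)]

lemma pw_add {η : 𝒢.obj} (σ : η ⟶ η) (i : ℕ) : ∀ j, pw σ (i + j) = pw σ i ≫ pw σ j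
  | 0 => (Category.comp_id _).symm
  | j + 1 => by
    rw [show i + (j + 1) = (i + j) + 1 from rfl, pw, pw, pw_add σ i j, Category.assoc]

lemma res_pw (F : StCoh.Ab K₀ 𝒢) {η : 𝒢.obj} {σ : η ⟶ η} {s : sec F η} (h : res F σ s = s) :
    ∀ i, res F (pw σ i) s = s
  | 0 => res_id F s
  | i + 1 => by rw [pw, res_comp, h, res_pw F h i]

/-- An object over a member of a covering of the base, with a generating automorphism. -/
structure Chart (P : MuPoint 𝒢 n) (η : 𝒢.obj) where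
  /-- the arrow to the point -/
  m : η ⟶ P.pt
  /-- the root of unity -/
  root : Γ((𝒢.p.obj η).left, ⊤)
  cyclo : Cyclo n root
  /-- the automorphism -/
  gen : η ⟶ η
  gen_vert : 𝒢.p.map gen = 𝟙 _
  ev_gen : (P.ev m gen : Γ((𝒢.p.obj η).left, ⊤)) = root

namespace Chart

variable {P : MuPoint 𝒢 n}

lemma exists_of_root (hn : 0 < n) {η : 𝒢.obj} (m : η ⟶ P.pt) {r : Γ((𝒢.p.obj η).left, ⊤)}
    (hr : Cyclo n r) : ∃ C : Chart P η, C.m = m ∧ C.root = r := by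
  obtain ⟨σ, h1, h2⟩ := P.exists_vert m (hr.unit_pow hn)
  exact ⟨⟨m, r, hr, σ, h1, (congrArg Units.val h2).trans (hr.val_unit hn)⟩, rfl, rfl⟩

variable {η : 𝒢.obj} (C : Chart P η)

lemma ev_pw : ∀ i : ℕ, P.ev C.m (pw C.gen i) = P.ev C.m C.gen ^ i
  | 0 => (P.ev_id C.m).trans (pow_zero _).symm
  | i + 1 => by rw [pw, P.ev_comp _ (pw_map C.gen_vert i), ev_pw i, pow_succ']

lemma ev_gen_pow : P.ev C.m C.gen ^ n = 1 :=
  Units.ext (by rw [Units.val_pow_eq_pow_val, C.ev_gen, C.cyclo.pow_eq_one, Units.val_one])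

lemma pw_gen : pw C.gen n = 𝟙 η :=
  P.vert_ext C.m (pw_map C.gen_vert n) (𝒢.p.map_id η)
    (by rw [C.ev_pw, C.ev_gen_pow, P.ev_id])

/-- The chart on an object over a chart. -/
lemma exists_pull (hn : 0 < n) {η' : 𝒢.obj} (g : η' ⟶ η) :
    ∃ C' : Chart P η', C'.gen ≫ g = g ≫ C.gen ∧ C'.root = (𝒢.p.map g).left.appTop C.root := by
  obtain ⟨C', hm, hr⟩ := exists_of_root hn (g ≫ C.m) (C.cyclo.map (𝒢.p.map g).left.appTop.hom)
  refine ⟨C', ?_, hr⟩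
  obtain ⟨τ, h1, h2⟩ := exists_hom_over P.fib g (g ≫ C.gen) (𝟙 _) (by
    rw [Category.id_comp, Functor.map_comp, C.gen_vert, Category.comp_id])
  have : C'.gen = τ := by
    refine P.vert_ext C'.m C'.gen_vert h1 (Units.ext ?_)
    rw [C'.ev_gen, hr]
    refine Eq.trans ?_ (congrArg Units.val ((P.ev_eq C'.m (g ≫ C.m) h1).trans
      (P.ev_res C.m g h2))).symm
    exact congrArg _ C.ev_gen.symm
  rw [this, h2]

/-- Powers of the generator act freely away from the empty scheme. -/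
lemma dvd_of_comp_pw (hn : 0 < n) (hinv : IsUnit (n : Γ(X, ⊤))) {ξ : 𝒢.obj} (a : ξ ⟶ η)
    (hne : Nonempty (𝒢.p.obj ξ).left) {i : ℕ} (h : a ≫ pw C.gen i = a) : n ∣ i := by
  obtain ⟨C', h1, -⟩ := C.exists_pull hn a
  have h2 : pw C'.gen i = 𝟙 ξ :=
    hom_over_ext P.fib a ((pw_map C'.gen_vert i).trans (𝒢.p.map_id ξ).symm)
      ((comp_pw h1 i).trans (h.trans (Category.id_comp a).symm))
  have h3 : C'.root ^ i = 1 := by
    rw [← C'.ev_gen, ← Units.val_pow_eq_pow_val, ← C'.ev_pw, h2, P.ev_id, Units.val_one]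
  obtain ⟨z⟩ := hne
  haveI : Nonempty (⊤ : (𝒢.p.obj ξ).left.Opens) := ⟨⟨z, trivial⟩⟩
  exact C'.cyclo.dvd_of_pow_eq_one (isUnit_natCast_obj hinv _) h3

/-- Parallel arrows to a chart differ locally by a power of the generator. -/
lemma exists_local_pow (hn : 0 < n) (hinv : IsUnit (n : Γ(X, ⊤))) {ξ : 𝒢.obj} (a b : ξ ⟶ η)
    (h : 𝒢.p.map a = 𝒢.p.map b) (t : (𝒢.p.obj ξ).left) :
    ∃ (ξ' : 𝒢.obj) (φ : ξ' ⟶ ξ), Reaches (𝒢.p.map φ) t ∧ ∃ i, φ ≫ a = φ ≫ b ≫ pw C.gen i := by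
  obtain ⟨C₁, hC₁, -⟩ := C.exists_pull hn b
  let v := P.dif (a ≫ C.m) (b ≫ C.m)
  have hv : (v : Γ((𝒢.p.obj ξ).left, ⊤)) ^ n = 1 := by
    rw [← Units.val_pow_eq_pow_val, P.dif_pow, Units.val_one]
  obtain ⟨U, htU, i, -, hU⟩ := exists_local_log C₁.cyclo (isUnit_natCast_obj hinv _) hn hv t
  obtain ⟨ξ', φ, hφ⟩ := H14MuCoh.exists_pull P.fib ξ
    (Over.homMk (U := Over.mk (U.ι ≫ (𝒢.p.obj ξ).hom)) U.ι rfl)
  obtain ⟨hr, hU'⟩ := hφ (fun V g => Reaches g t ∧ g.left.appTop (v : Γ((𝒢.p.obj ξ).left, ⊤)) =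
      g.left.appTop (C₁.root ^ i))
    ⟨⟨inferInstanceAs (Flat U.ι), inferInstanceAs (LocallyOfFinitePresentation U.ι),
      ⟨⟨t, htU⟩, rfl⟩⟩, hU⟩
  refine ⟨ξ', φ, hr, i, ?_⟩
  refine hom_over_ext P.fib C.m ?_ (P.dif_inj (b := φ ≫ b ≫ C.m) ?_)
  · simp only [Functor.map_comp, h, pw_map C.gen_vert, Category.comp_id]
  · have e : φ ≫ b ≫ pw C.gen i = φ ≫ pw C₁.gen i ≫ b := by rw [comp_pw hC₁ i]
    rw [e, Category.assoc, Category.assoc, Category.assoc, ← P.dif_res, ← P.dif_res]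
    refine Units.ext ?_
    have e2 : P.dif (pw C₁.gen i ≫ b ≫ C.m) (b ≫ C.m) = P.ev C₁.m C₁.gen ^ i :=
      (P.ev_eq (b ≫ C.m) C₁.m (pw_map C₁.gen_vert i)).trans (C₁.ev_pw i)
    rw [e2]
    refine hU'.trans ?_
    rw [← C₁.ev_gen, ← Units.val_pow_eq_pow_val]
    rfl

/-- An invariant section takes equal values on parallel arrows. -/
lemma res_eq_of_parallel (hn : 0 < n) (hinv : IsUnit (n : Γ(X, ⊤))) (F : StCoh.Ab K₀ 𝒢)
    {s : sec F η} (hs : res F C.gen s = s) {ξ : 𝒢.obj} (a b : ξ ⟶ η)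
    (h : 𝒢.p.map a = 𝒢.p.map b) : res F a s = res F b s := by
  let R : Sieve ξ :=
    { arrows := fun ζ φ => ∃ i, φ ≫ a = φ ≫ b ≫ pw C.gen i
      downward_closed := fun ⟨i, hi⟩ g => ⟨i, by rw [Category.assoc, Category.assoc, hi]⟩ }
  refine sec_ext F (R := R) (mem_of_reaches P.fib fun t => ?_) fun ζ φ hφ => ?_
  · obtain ⟨ξ', φ, h1, h2⟩ := C.exists_local_pow hn hinv a b h t
    exact ⟨ξ', φ, h2, h1⟩
  · obtain ⟨i, hi⟩ := hφ
    rw [← res_comp, ← res_comp, hi, ← Category.assoc, res_comp, res_pw F hs i]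

end Chart

section Descent

variable (P : MuPoint 𝒢 n) [StCoh.MorCocont K₀ (FibCat.toSelf 𝒢)]

/-- A section constant on parallel arrows descends. -/
lemma exists_fam_of_parallel (F : StCoh.Ab K₀ 𝒢) {η : 𝒢.obj} (m : η ⟶ P.pt) (s : sec F η)
    (h : ∀ (ξ : 𝒢.obj) (a b : ξ ⟶ η), 𝒢.p.map a = 𝒢.p.map b → res F a s = res F b s) :
    ∃ t : sec (fPush F) (𝒢.p.obj η), toFam t η (𝟙 _) = s := by
  have hex : ∀ (ξ : 𝒢.obj) (g : 𝒢.p.obj ξ ⟶ 𝒢.p.obj η) ⦃ζ : 𝒢.obj⦄ (φ : ζ ⟶ ξ),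
      P.toPt ξ φ → ∃ a : ζ ⟶ η, 𝒢.p.map a = 𝒢.p.map φ ≫ g := fun ξ g ζ φ hφ => by
    obtain ⟨c⟩ := hφ
    obtain ⟨a, ha, -⟩ := exists_hom_over P.fib m c (𝒢.p.map φ ≫ g) (P.base.hom_ext _ _)
    exact ⟨a, ha⟩
  choose a ha using hex
  have hglue := fun ξ g => sec_glue F (P.toPt_mem ξ) (fun ζ φ hφ => res F (a ξ g φ hφ) s)
    (fun ζ ζ' φ k hφ hk => by
      rw [← res_comp]
      exact h _ _ _ (by rw [Functor.map_comp, ha, ha, Functor.map_comp, Category.assoc]))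
  choose t ht using hglue
  have key : ∀ (ξ : 𝒢.obj) g ⦃ζ : 𝒢.obj⦄ (φ : ζ ⟶ ξ) (b : ζ ⟶ η),
      P.toPt ξ φ → 𝒢.p.map b = 𝒢.p.map φ ≫ g → res F φ (t ξ g) = res F b s :=
    fun ξ g ζ φ b hφ hb => (ht ξ g φ hφ).trans (h _ _ _ ((ha ξ g φ hφ).trans hb.symm))
  obtain ⟨t', ht', -⟩ := existsUnique_toFam F (𝒢.p.obj η) t fun ξ ζ g q => by
    refine sec_ext F (P.toPt_mem ζ) fun θ ψ hψ => ?_
    obtain ⟨b, hb⟩ : ∃ b : θ ⟶ η, 𝒢.p.map b = 𝒢.p.map ψ ≫ 𝒢.p.map g ≫ q :=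
      ⟨a ζ (𝒢.p.map g ≫ q) ψ hψ, ha ζ (𝒢.p.map g ≫ q) ψ hψ⟩
    rw [← res_comp, key ζ _ ψ b hψ hb, key ξ q (ψ ≫ g) b hψ
      (by rw [hb, Functor.map_comp, Category.assoc])]
  refine ⟨t', (ht' η (𝟙 _)).trans (sec_ext F (P.toPt_mem η) fun θ ψ hψ => ?_)⟩
  exact key η (𝟙 _) ψ ψ hψ (Category.comp_id _).symm

/-- An invariant section over a chart descends. -/
lemma Chart.exists_fam {P : MuPoint 𝒢 n} {η : 𝒢.obj} (C : Chart P η) (hn : 0 < n)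
    (hinv : IsUnit (n : Γ(X, ⊤))) (F : StCoh.Ab K₀ 𝒢) (s : sec F η) (hs : res F C.gen s = s) :
    ∃ t : sec (fPush F) (𝒢.p.obj η), toFam t η (𝟙 _) = s :=
  exists_fam_of_parallel P F C.m s fun _ a b h => C.res_eq_of_parallel hn hinv F hs a b h

/-- A family is determined on one object over the base. -/
lemma fam_ext {F : StCoh.Ab K₀ 𝒢} {T : Over X} {η : 𝒢.obj} (m : η ⟶ P.pt)
    (e : 𝒢.p.obj η = T) {t t' : sec (fPush F) T}
    (h : toFam t η (eqToHom e) = toFam t' η (eqToHom e)) : t = t' := by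
  subst e
  refine fPush_ext fun ξ g => sec_ext F (P.toPt_mem ξ) fun ζ φ hφ => ?_
  obtain ⟨c⟩ := hφ
  obtain ⟨a, ha, -⟩ := exists_hom_over P.fib m c (𝒢.p.map φ ≫ g) (P.base.hom_ext _ _)
  rw [toFam_natural, toFam_natural, ← ha, ← Category.comp_id (𝒢.p.map a), ← toFam_natural,
    ← toFam_natural]
  exact congrArg (res F a) h

/-- There is an object over every scheme over the base. -/
lemma exists_obj_over (T : Over X) : ∃ η : 𝒢.obj, Nonempty (η ⟶ P.pt) ∧ 𝒢.p.obj η = T := by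
  obtain ⟨η, m, e, -⟩ := exists_pullObj P.fib P.pt (P.base.from T)
  exact ⟨η, ⟨m⟩, e⟩

/-- Charts exist over the members of a covering. -/
lemma exists_chart_member (hn : 0 < n) (T : Over X) (z : T.left) :
    ∃ (η : 𝒢.obj) (c : 𝒢.p.obj η ⟶ T), Reaches c z ∧ Nonempty (Chart P η) := by
  obtain ⟨V, c, r, h1, h2, h3, h4⟩ := exists_cyclo_member T hn z
  obtain ⟨η, ⟨m⟩, e⟩ := exists_obj_over P V
  subst e
  obtain ⟨C, -, -⟩ := Chart.exists_of_root hn m h4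
  exact ⟨η, c, ⟨h1, h2, h3⟩, ⟨C⟩⟩

end Descent

end Groth.Agent.H14MuCoh
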