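import Groth.Agent.H14MuCoh.Charts
import Mathlib.GroupTheory.Perm.Cycle.Basic

/-!
# Elements of norm zero in an injective sheaf are coboundaries
-/

set_option autoImplicit false
set_option backward.isDefEq.respectTransparency false
set_option backward.isDefEq.respectTransparency.types false

universe u v

open CategoryTheory CategoryTheory.Limits AlgebraicGeometry Opposite

noncomputable section

namespace Groth.Agent.H14MuCoh

open H14GerbeCoh

/-- Invariant chains for a free permutation of order `n` are norms. -/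
lemma exists_norm_eq {H : Type v} (e : Equiv.Perm H) {n : ℕ} (hn : 0 < n) (hpow : e ^ n = 1)
    (hfree : ∀ (a : H) (i : ℕ), (e ^ i) a = a → n ∣ i) (z : H →₀ ℤ)
    (hz : Finsupp.mapDomain e z = z) :
    ∃ y : H →₀ ℤ, ∑ i ∈ Finset.range n, Finsupp.mapDomain (e ^ i : Equiv.Perm H) y = z := by
  classical
  let rep : H → H := fun a => (Quotient.mk (Equiv.Perm.SameCycle.setoid e) a).out
  have hrep : ∀ a, e.SameCycle (rep a) a := fun a => Quotient.mk_out (s := Equiv.Perm.SameCycle.setoid e) a
  have hrep' : ∀ a b, e.SameCycle a b → rep a = rep b := fun a b h =>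
    congrArg Quotient.out (Quotient.sound (s := Equiv.Perm.SameCycle.setoid e) h)
  have hinv : ∀ (i : ℕ) (a : H), z ((e ^ i) a) = z a := by
    intro i
    induction i with
    | zero => simp
    | succ i ih =>
      intro a
      rw [pow_succ', Equiv.Perm.mul_apply]
      conv_lhs => rw [← hz]
      rw [Finsupp.mapDomain_apply e.injective, ih]
  refine ⟨z.filter fun a => rep a = a, Finsupp.ext fun b => ?_⟩
  obtain ⟨k, hk⟩ := hrep b
  let i₀ : ℕ := (k % n).toNat
  have hk0 : 0 ≤ k % n := Int.emod_nonneg _ (by omega)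
  have hi₀ : i₀ < n := by
    have := Int.emod_lt_of_pos k (show (0 : ℤ) < n by omega)
    omega
  have he : (e ^ i₀) (rep b) = b := by
    have : e ^ k = e ^ i₀ := by
      conv_lhs => rw [← Int.emod_add_mul_ediv k n, zpow_add, zpow_mul, zpow_natCast, hpow, one_zpow,
        mul_one]
      rw [← zpow_natCast, show ((i₀ : ℕ) : ℤ) = k % n from Int.toNat_of_nonneg hk0]
    rw [← this, hk]
  rw [Finset.sum_apply', Finset.sum_eq_single i₀]
  · conv_lhs => rw [← he]
    rw [Finsupp.mapDomain_apply (Equiv.injective _), Finsupp.filter_apply_pos]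
    · conv_rhs => rw [← he]
      rw [hinv]
    · exact hrep' _ _ (hrep b)
  · intro i hi hne
    have hb : ((e ^ i) : Equiv.Perm H) ((e ^ i).symm b) = b := Equiv.apply_symm_apply _ _
    rw [← hb, Finsupp.mapDomain_apply (Equiv.injective _), Finsupp.filter_apply_neg]
    intro hc
    have hs : e.SameCycle ((e ^ i).symm b) b := ⟨i, by rw [zpow_natCast, hb]⟩
    rw [hrep' _ _ hs] at hc
    have h2 : (e ^ i) (rep b) = (e ^ i₀) (rep b) := by rw [he, hc, hb]
    have hlt := Finset.mem_range.1 hi
    rcases Nat.lt_or_ge i i₀ with h | h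
    · have h3 : (e ^ (i₀ - i)) (rep b) = rep b := by
        apply (e ^ i).injective
        rw [← Equiv.Perm.mul_apply, ← pow_add, Nat.add_sub_cancel' h.le, ← h2]
      have := Nat.le_of_dvd (by omega) (hfree _ _ h3)
      omega
    · have h3 : (e ^ (i - i₀)) (rep b) = rep b := by
        apply (e ^ i₀).injective
        rw [← Equiv.Perm.mul_apply, ← pow_add, Nat.add_sub_cancel' h, h2]
      have := Nat.le_of_dvd (by omega) (hfree _ _ h3)
      omega
  · exact fun h => (h (Finset.mem_range.2 hi₀)).elim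

variable {X : Scheme.{u}} {𝒢 : AlgSt.Cat X} {n : ℕ} {P : MuPoint 𝒢 n}

/-- In an injective sheaf a section of norm zero over a chart is a coboundary. -/
theorem Chart.exists_coboundary {η : 𝒢.obj} (C : Chart P η) (hn : 0 < n)
    (hinv : IsUnit (n : Γ(X, ⊤))) (I : StCoh.Ab Scheme.fppfPrecoverage 𝒢) [Injective I]
    (d : sec I η) (hd : ∑ i ∈ Finset.range n, res I (pw C.gen i) d = 0) :
    ∃ t : sec I η, res I C.gen t - t = d := by
  classical
  haveI : Injective I.obj := injective_obj I
  let H : 𝒢.objᵒᵖ → Type (u + 1) := fun ξ => ULift.{u + 1} (ξ.unop ⟶ η)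
  let mp : ∀ {ξ ζ : 𝒢.objᵒᵖ}, (ξ ⟶ ζ) → H ξ → H ζ := fun f a => ⟨f.unop ≫ a.down⟩
  let F : 𝒢.objᵒᵖ ⥤ AddCommGrpCat.{u + 1} :=
    { obj := fun ξ => AddCommGrpCat.of (H ξ →₀ ℤ)
      map := fun f => AddCommGrpCat.ofHom (Finsupp.mapDomain.addMonoidHom (mp f))
      map_id := fun ξ => by
        apply AddCommGrpCat.hom_ext
        refine AddMonoidHom.ext fun z => ?_
        change Finsupp.mapDomain (mp (𝟙 ξ)) z = z
        rw [show mp (𝟙 ξ) = id from funext fun a => ULift.ext _ _ (Category.id_comp _),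
          Finsupp.mapDomain_id]
      map_comp := fun {ξ ζ θ} f g => by
        apply AddCommGrpCat.hom_ext
        refine AddMonoidHom.ext fun z => ?_
        change Finsupp.mapDomain (mp (f ≫ g)) z = Finsupp.mapDomain (mp g) (Finsupp.mapDomain (mp f) z)
        rw [← Finsupp.mapDomain_comp]
        exact congrArg (fun q => Finsupp.mapDomain q z)
          (funext fun a => ULift.ext _ _ (Category.assoc _ _ _)) }
  let sh : ∀ ξ, H ξ → H ξ := fun ξ a => ⟨a.down ≫ C.gen⟩
  let δ : ∀ ξ, (H ξ →₀ ℤ) →+ (H ξ →₀ ℤ) := fun ξ =>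
    Finsupp.mapDomain.addMonoidHom (sh ξ) - AddMonoidHom.id _
  have hδn : ∀ (ξ ζ : 𝒢.objᵒᵖ) (f : ξ ⟶ ζ) (z : H ξ →₀ ℤ),
      δ ζ (Finsupp.mapDomain (mp f) z) = Finsupp.mapDomain (mp f) (δ ξ z) := by
    intro ξ ζ f z
    change Finsupp.mapDomain (sh ζ) (Finsupp.mapDomain (mp f) z) - Finsupp.mapDomain (mp f) z =
      Finsupp.mapDomain.addMonoidHom (mp f) (Finsupp.mapDomain (sh ξ) z - z)
    rw [map_sub]
    refine congrArg (· - _) ?_
    change Finsupp.mapDomain (sh ζ) _ = Finsupp.mapDomain (mp f) (Finsupp.mapDomain (sh ξ) z)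
    rw [← Finsupp.mapDomain_comp, ← Finsupp.mapDomain_comp]
    exact congrArg (fun q => Finsupp.mapDomain q z)
      (funext fun a => ULift.ext _ _ (Category.assoc _ _ _))
  let φ : ∀ ξ : 𝒢.objᵒᵖ, (H ξ →₀ ℤ) →+ sec I ξ.unop := fun ξ =>
    Finsupp.liftAddHom fun a => zmultiplesHom _ (res I a.down d)
  have hφn : ∀ (ξ ζ : 𝒢.objᵒᵖ) (f : ξ ⟶ ζ) (z : H ξ →₀ ℤ),
      φ ζ (Finsupp.mapDomain (mp f) z) = res I f.unop (φ ξ z) := by
    intro ξ ζ f z
    refine DFunLike.congr_fun (Finsupp.addHom_ext (f := (φ ζ).comp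
      (Finsupp.mapDomain.addMonoidHom (mp f))) (g := (res I f.unop).comp (φ ξ)) fun a m => ?_) z
    simp [φ, mp, res_comp, Finsupp.mapDomain_single]
  have hker : ∀ ξ (z : H ξ →₀ ℤ), δ ξ z = 0 → φ ξ z = 0 := by
    intro ξ z hz
    by_cases hne : Nonempty (𝒢.p.obj ξ.unop).left
    · let e : Equiv.Perm (H ξ) :=
        { toFun := sh ξ
          invFun := fun a => ⟨a.down ≫ pw C.gen (n - 1)⟩
          left_inv := fun a => by
            refine ULift.ext _ _ ?_
            change (a.down ≫ C.gen) ≫ pw C.gen (n - 1) = a.down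
            rw [Category.assoc, show C.gen ≫ pw C.gen (n - 1) = pw C.gen (1 + (n - 1)) by
              rw [pw_add]; simp [pw], show 1 + (n - 1) = n by omega, C.pw_gen, Category.comp_id]
          right_inv := fun a => by
            refine ULift.ext _ _ ?_
            change (a.down ≫ pw C.gen (n - 1)) ≫ C.gen = a.down
            rw [Category.assoc, show pw C.gen (n - 1) ≫ C.gen = pw C.gen (n - 1 + 1) from rfl,
              show n - 1 + 1 = n by omega, C.pw_gen, Category.comp_id] }
      have hpw : ∀ (i : ℕ) (a : H ξ), (e ^ i) a = ⟨a.down ≫ pw C.gen i⟩ := by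
        intro i
        induction i with
        | zero => intro a; exact ULift.ext _ _ (Category.comp_id _).symm
        | succ i ih =>
          intro a
          rw [pow_succ', Equiv.Perm.mul_apply, ih]
          exact ULift.ext _ _ (Category.assoc _ _ _)
      obtain ⟨y, rfl⟩ := exists_norm_eq e hn
        (Equiv.ext fun a => (hpw n a).trans (by rw [C.pw_gen, Category.comp_id]; rfl))
        (fun a i h => C.dvd_of_comp_pw hn hinv a.down hne
          (congrArg ULift.down ((hpw i a).symm.trans h))) z (sub_eq_zero.1 hz)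
      refine DFunLike.congr_fun (Finsupp.addHom_ext (f := (φ ξ).comp
        (∑ i ∈ Finset.range n, Finsupp.mapDomain.addMonoidHom (e ^ i : Equiv.Perm (H ξ))))
        (g := 0) fun a m => ?_) y |> Eq.trans (by simp)
      have : ∀ i, φ ξ (Finsupp.mapDomain (e ^ i : Equiv.Perm (H ξ)) (Finsupp.single a m)) =
          m • res I a.down (res I (pw C.gen i) d) := fun i => by
        simp [φ, hpw, res_comp]
      simp only [AddMonoidHom.comp_apply, AddMonoidHom.finsetSum_apply,
        Finsupp.mapDomain.addMonoidHom_apply, AddMonoidHom.zero_apply]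
      rw [map_sum, Finset.sum_congr rfl (fun i _ => this i), ← Finset.smul_sum, ← map_sum, hd,
        map_zero, smul_zero]
    · exact sec_eq_of_isEmpty P.fib I (not_nonempty_iff.1 hne) _ _
  let Z : 𝒢.objᵒᵖ ⥤ AddCommGrpCat.{u + 1} :=
    { obj := fun ξ => AddCommGrpCat.of (δ ξ).range
      map := fun {ξ ζ} f => AddCommGrpCat.ofHom
        (((F.map f).hom.comp (δ ξ).range.subtype).codRestrict (δ ζ).range fun w => by
          obtain ⟨w, z, rfl⟩ := w
          exact ⟨Finsupp.mapDomain (mp f) z, hδn ξ ζ f z⟩)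
      map_id := fun ξ => by
        apply AddCommGrpCat.hom_ext
        refine AddMonoidHom.ext fun w => Subtype.ext ?_
        exact ConcreteCategory.congr_hom (F.map_id ξ) w.1
      map_comp := fun {ξ ζ θ} f g => by
        apply AddCommGrpCat.hom_ext
        refine AddMonoidHom.ext fun w => Subtype.ext ?_
        exact ConcreteCategory.congr_hom (F.map_comp f g) w.1 }
  let ι : Z ⟶ F :=
    { app := fun ξ => AddCommGrpCat.ofHom (δ ξ).range.subtype
      naturality := fun _ _ _ => rfl }
  have : ∀ ξ, Mono (ι.app ξ) := fun ξ =>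
    (AddCommGrpCat.mono_iff_injective _).2 (fun _ _ h => Subtype.ext h)
  have : Mono ι := NatTrans.mono_of_mono_app ι
  have hwd : ∀ ξ (z z' : H ξ →₀ ℤ), δ ξ z = δ ξ z' → φ ξ z = φ ξ z' := fun ξ z z' h => by
    refine sub_eq_zero.1 ?_
    rw [← map_sub]
    exact hker ξ _ (by rw [map_sub, h, sub_self])
  let ψ : ∀ ξ : 𝒢.objᵒᵖ, (δ ξ).range →+ sec I ξ.unop := fun ξ =>
    AddMonoidHom.mk' (fun w => φ ξ w.2.choose) fun w w' => by
      rw [← map_add]
      exact hwd ξ _ _ (by rw [map_add, w.2.choose_spec, w'.2.choose_spec, (w + w').2.choose_spec]; rfl)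
  let Φ : Z ⟶ I.obj :=
    { app := fun ξ => AddCommGrpCat.ofHom (ψ ξ)
      naturality := fun ξ ζ f => by
        ext w
        change φ ζ ((Z.map f).hom w).2.choose = res I f.unop (φ ξ w.2.choose)
        rw [← hφn]
        refine hwd ζ _ _ ?_
        rw [hδn, w.2.choose_spec, ((Z.map f).hom w).2.choose_spec]
        rfl }
  let t' : F ⟶ I.obj := Injective.factorThru Φ ι
  have ht' : ι ≫ t' = Φ := Injective.comp_factorThru Φ ι
  let o : H (op η) := ⟨𝟙 η⟩
  refine ⟨(t'.app (op η)).hom (Finsupp.single o 1), ?_⟩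
  have h1 : res I C.gen ((t'.app (op η)).hom (Finsupp.single o 1)) =
      (t'.app (op η)).hom (Finsupp.single (sh (op η) o) 1) := by
    refine (ConcreteCategory.congr_hom (t'.naturality C.gen.op) _).symm.trans ?_
    change (t'.app (op η)).hom (Finsupp.mapDomain (mp C.gen.op) (Finsupp.single o 1)) = _
    rw [Finsupp.mapDomain_single]
    exact congrArg (fun a => (t'.app (op η)).hom (Finsupp.single a 1))
      (ULift.ext _ _ ((Category.comp_id _).trans (Category.id_comp _).symm))
  rw [h1, ← map_sub]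
  have hmem : Finsupp.single (sh (op η) o) 1 - Finsupp.single o 1 ∈ (δ (op η)).range :=
    ⟨Finsupp.single o 1, by simp [δ]⟩
  refine (ConcreteCategory.congr_hom (congrArg (fun m => NatTrans.app m (op η)) ht')
    (⟨_, hmem⟩ : (δ (op η)).range)).trans ?_
  change φ (op η) hmem.choose = d
  refine (hwd (op η) _ (Finsupp.single o 1) (hmem.choose_spec.trans (by simp [δ]))).trans ?_
  simp [φ, o, res_id]

end Groth.Agent.H14MuCoh
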