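import Groth.Agent.H14MuCoh.Charts
import Groth.Prelude.Def_StCoh

/-!
# Sections of the multiplicative group
-/

set_option autoImplicit false
set_option backward.isDefEq.respectTransparency false
set_option backward.isDefEq.respectTransparency.types false

universe u

open CategoryTheory CategoryTheory.Limits AlgebraicGeometry Opposite
open MonoidalCategory CartesianMonoidalCategory MonObj

noncomputable section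

namespace Groth.Agent.H14MuCoh

open H14GerbeCoh

variable {X : Scheme.{u}} {𝒢 : AlgSt.Cat X}

local notation "K₀" => Scheme.fppfPrecoverage

variable [StCoh.BaseCont K₀ 𝒢]

/-- The unit of a section. -/
def gU {ξ : 𝒢.obj} (s : sec (StCoh.Gm K₀ 𝒢) ξ) : (Γ((𝒢.p.obj ξ).left, ⊤))ˣ :=
  GmPts.unitOfPt (show 𝒢.p.obj ξ ⟶ Red.Gm X from s.down.toMul)

/-- The section of a unit. -/
def gP (ξ : 𝒢.obj) (v : (Γ((𝒢.p.obj ξ).left, ⊤))ˣ) : sec (StCoh.Gm K₀ 𝒢) ξ :=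
  ULift.up (Additive.ofMul (GmPts.ptOfUnit v))

lemma gU_gP (ξ : 𝒢.obj) (v : (Γ((𝒢.p.obj ξ).left, ⊤))ˣ) : gU (gP ξ v) = v :=
  GmPts.unitOfPt_ptOfUnit v

lemma gU_injective (ξ : 𝒢.obj) : Function.Injective (gU (ξ := ξ)) := fun a b h => by
  refine ULift.ext _ _ ?_
  exact (GmPts.equiv (S := X) (𝒢.p.obj ξ)).injective h

lemma gU_add {ξ : 𝒢.obj} (a b : sec (StCoh.Gm K₀ 𝒢) ξ) : gU (a + b) = gU a * gU b :=
  map_mul (GmPts.equiv (S := X) (𝒢.p.obj ξ)) _ _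

lemma gU_nsmul {ξ : 𝒢.obj} (a : sec (StCoh.Gm K₀ 𝒢) ξ) (i : ℕ) : gU (i • a) = gU a ^ i :=
  map_pow (GmPts.equiv (S := X) (𝒢.p.obj ξ)) _ i

lemma gU_zero (ξ : 𝒢.obj) : gU (0 : sec (StCoh.Gm K₀ 𝒢) ξ) = 1 :=
  map_one (GmPts.equiv (S := X) (𝒢.p.obj ξ))

lemma gU_res {ξ ζ : 𝒢.obj} (f : ζ ⟶ ξ) (s : sec (StCoh.Gm K₀ 𝒢) ξ) :
    gU (res (StCoh.Gm K₀ 𝒢) f s) = uRes (𝒢.p.map f) (gU s) :=
  GmPts.unitOfPt_comp _ _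

lemma res_vert {ξ : 𝒢.obj} {f : ξ ⟶ ξ} (h : 𝒢.p.map f = 𝟙 _) (s : sec (StCoh.Gm K₀ 𝒢) ξ) :
    res (StCoh.Gm K₀ 𝒢) f s = s :=
  gU_injective ξ (by rw [gU_res, h, uRes_id])

lemma exists_root_sec (hp : FibCat.IsFibGrpd 𝒢.p) {n : ℕ} (hn : 0 < n) {ξ : 𝒢.obj}
    (s : sec (StCoh.Gm K₀ 𝒢) ξ) (z : (𝒢.p.obj ξ).left) :
    ∃ (ζ : 𝒢.obj) (φ : ζ ⟶ ξ), Reaches (𝒢.p.map φ) z ∧
      ∃ r : sec (StCoh.Gm K₀ 𝒢) ζ, n • r = res (StCoh.Gm K₀ 𝒢) φ s := by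
  obtain ⟨V, c, r, h1, h2, h3, h4⟩ := exists_root_member (gU s) hn z
  obtain ⟨ζ, φ, hφ⟩ := exists_pull hp ξ c
  obtain ⟨hz, r', hr'⟩ := hφ (fun W q => Reaches q z ∧
    ∃ r' : (Γ(W.left, ⊤))ˣ, r' ^ n = uRes q (gU s)) ⟨⟨h1, h2, h3⟩, r, h4⟩
  exact ⟨ζ, φ, hz, gP ζ r', gU_injective ζ (by rw [gU_nsmul, gU_gP, gU_res, hr'])⟩

end Groth.Agent.H14MuCoh
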