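import Groth.Agent.H14MuCoh.Site
import Groth.Agent.H14Quot.NeutralBG
import Groth.Agent.H18Torsor.DiagExact
import Groth.Prelude.Def_GmPts

/-!
# A category with a point whose automorphisms are the roots of unity
-/

set_option autoImplicit false
set_option backward.isDefEq.respectTransparency false
set_option backward.isDefEq.respectTransparency.types false

universe u

open CategoryTheory CategoryTheory.Functor CategoryTheory.Limits AlgebraicGeometry Opposite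

noncomputable section

namespace Groth.Agent.H14MuCoh

open H14Fib H14Stk H14GerbeCoh

variable {X : Scheme.{u}} {𝒢 : AlgSt.Cat X}

/-- Pullback of units. -/
abbrev uRes {T T' : Over X} (f : T' ⟶ T) : (Γ(T.left, ⊤))ˣ →* (Γ(T'.left, ⊤))ˣ :=
  Units.map (f.left.appTop.hom : Γ(T.left, ⊤) →* Γ(T'.left, ⊤))

lemma uRes_id (T : Over X) (v : (Γ(T.left, ⊤))ˣ) : uRes (𝟙 T) v = v := by
  ext
  simp

lemma uRes_comp {T T' T'' : Over X} (f : T' ⟶ T) (g : T'' ⟶ T') (v : (Γ(T.left, ⊤))ˣ) :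
    uRes (g ≫ f) v = uRes g (uRes f v) := by
  ext
  simp

/-- A point through which everything locally factors, whose automorphisms are `n`-th roots of
unity. -/
structure MuPoint (𝒢 : AlgSt.Cat X) (n : ℕ) where
  /-- the point -/
  pt : 𝒢.obj
  fib : FibCat.IsFibGrpd 𝒢.p
  base : IsTerminal (𝒢.p.obj pt)
  cover : ∀ ξ : 𝒢.obj, ∃ R ∈ StCoh.J Scheme.fppfPrecoverage 𝒢 ξ,
    ∀ ⦃η : 𝒢.obj⦄ (φ : η ⟶ ξ), R φ → Nonempty (η ⟶ pt)
  /-- the root of unity comparing two arrows into the point -/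
  dif : ∀ {ξ : 𝒢.obj}, (ξ ⟶ pt) → (ξ ⟶ pt) → (Γ((𝒢.p.obj ξ).left, ⊤))ˣ
  dif_pow : ∀ {ξ : 𝒢.obj} (a b : ξ ⟶ pt), dif a b ^ n = 1
  dif_res : ∀ {ξ η : 𝒢.obj} (f : η ⟶ ξ) (a b : ξ ⟶ pt),
    uRes (𝒢.p.map f) (dif a b) = dif (f ≫ a) (f ≫ b)
  dif_mul : ∀ {ξ : 𝒢.obj} (a b c : ξ ⟶ pt), dif a b * dif b c = dif a c
  dif_inj : ∀ {ξ : 𝒢.obj} {a a' b : ξ ⟶ pt}, dif a b = dif a' b → a = a'
  dif_surj : ∀ {ξ : 𝒢.obj} (b : ξ ⟶ pt) (v : (Γ((𝒢.p.obj ξ).left, ⊤))ˣ), v ^ n = 1 →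
    ∃ a, dif a b = v

namespace MuPoint

variable {n : ℕ} (P : MuPoint 𝒢 n)

lemma dif_self {ξ : 𝒢.obj} (a : ξ ⟶ P.pt) : P.dif a a = 1 :=
  mul_right_cancel ((P.dif_mul a a a).trans (one_mul _).symm)

/-- The sieve of objects mapping to the point. -/
def toPt (ξ : 𝒢.obj) : Sieve ξ where
  arrows η _ := Nonempty (η ⟶ P.pt)
  downward_closed := fun ⟨a⟩ g => ⟨g ≫ a⟩

lemma toPt_mem (ξ : 𝒢.obj) : P.toPt ξ ∈ StCoh.J Scheme.fppfPrecoverage 𝒢 ξ := by
  obtain ⟨R, hR, h⟩ := P.cover ξ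
  exact GrothendieckTopology.superset_covering _ (fun η φ hφ => h φ hφ) hR

/-- The root of unity of a vertical endomorphism. -/
def ev {η : 𝒢.obj} (m : η ⟶ P.pt) (σ : η ⟶ η) : (Γ((𝒢.p.obj η).left, ⊤))ˣ := P.dif (σ ≫ m) m

lemma ev_eq {η : 𝒢.obj} (m m' : η ⟶ P.pt) {σ : η ⟶ η} (hσ : 𝒢.p.map σ = 𝟙 _) :
    P.ev m σ = P.ev m' σ := by
  have h := P.dif_res σ m m'
  rw [hσ, uRes_id] at h
  rw [ev, ev, ← P.dif_mul (σ ≫ m) (σ ≫ m') m, ← P.dif_mul (σ ≫ m') m' m, ← h, mul_comm (P.dif m m'),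
    mul_assoc, P.dif_mul, P.dif_self, mul_one]

lemma exists_vert {η : 𝒢.obj} (m : η ⟶ P.pt) {v : (Γ((𝒢.p.obj η).left, ⊤))ˣ} (hv : v ^ n = 1) :
    ∃ σ : η ⟶ η, 𝒢.p.map σ = 𝟙 _ ∧ P.ev m σ = v := by
  obtain ⟨a, ha⟩ := P.dif_surj m v hv
  obtain ⟨σ, h1, h2⟩ := exists_hom_over P.fib m a (𝟙 _) (P.base.hom_ext _ _)
  exact ⟨σ, h1, (congrArg (P.dif · m) h2).trans ha⟩

lemma vert_ext {η : 𝒢.obj} (m : η ⟶ P.pt) {σ τ : η ⟶ η} (hσ : 𝒢.p.map σ = 𝟙 _)
    (hτ : 𝒢.p.map τ = 𝟙 _) (h : P.ev m σ = P.ev m τ) : σ = τ :=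
  hom_over_ext P.fib m (hσ.trans hτ.symm) (P.dif_inj h)

lemma ev_id {η : 𝒢.obj} (m : η ⟶ P.pt) : P.ev m (𝟙 η) = 1 := by
  rw [ev, Category.id_comp, P.dif_self]

lemma ev_comp {η : 𝒢.obj} (m : η ⟶ P.pt) {σ τ : η ⟶ η} (hσ : 𝒢.p.map σ = 𝟙 _) :
    P.ev m (σ ≫ τ) = P.ev m τ * P.ev m σ := by
  have h := P.dif_res σ (τ ≫ m) m
  rw [hσ, uRes_id] at h
  calc P.ev m (σ ≫ τ) = P.dif (σ ≫ τ ≫ m) m := by rw [ev, Category.assoc]
    _ = _ := by rw [← P.dif_mul _ (σ ≫ m), ← h]; rfl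

lemma ev_res {η η' : 𝒢.obj} (m : η ⟶ P.pt) (g : η' ⟶ η) {σ : η ⟶ η} {σ' : η' ⟶ η'}
    (h : σ' ≫ g = g ≫ σ) : P.ev (g ≫ m) σ' = uRes (𝒢.p.map g) (P.ev m σ) := by
  rw [ev, ev, P.dif_res, reassoc_of% h]

end MuPoint

section BG

open MonoidalCategory CartesianMonoidalCategory MonObj H14Quot AlgSt

variable {G : Over X} [GrpObj G]

local notation "K₀" => Scheme.fppfPrecoverage
local notation "𝔅" => AlgSt.BG Scheme.fppfPrecoverage G

/-- The point of the classifying stack. -/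
abbrev bgPt : (AlgSt.BG K₀ G).obj := trivTors (G := G) (Over.mk (𝟙 X))

/-- The canonical morphism of trivial torsors. -/
def canon (T : Over X) : trivTors (G := G) T ⟶ bgPt :=
  homOfSec (lift (1 : T ⟶ G) (Over.mkIdTerminal.from T)) (toUnit_unique _ _)

lemma gpElt_canon (T : Over X) : gpElt (canon (G := G) T) = 1 := by
  rw [canon, gpElt, secOfHom_homOfSec]
  exact lift_fst _ _

lemma gpElt_ext {T : Over X} {h k : trivTors (G := G) T ⟶ bgPt} (e : gpElt h = gpElt k) : h = k := by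
  have hb : h.base = k.base := Over.mkIdTerminal.hom_ext _ _
  have hs : secOfHom h = secOfHom k := by rw [secOfHom_triv h, secOfHom_triv k, hb, e]
  rw [← homOfSec_secOfHom h, ← homOfSec_secOfHom k]
  congr 1

lemma exists_chart {ξ : (AlgSt.BG K₀ G).obj} (b : ξ ⟶ bgPt) :
    ∃ χ : trivTors (G := G) ξ.base ⟶ ξ, χ.base = 𝟙 _ ∧ χ ≫ b = canon ξ.base := by
  exact exists_hom_over (𝒢 := 𝔅) quotSt_fibGrpd b (canon ξ.base) (𝟙 _)
    (Over.mkIdTerminal.hom_ext _ _)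

/-- The chart given by an arrow to the point. -/
def chart {ξ : (AlgSt.BG K₀ G).obj} (b : ξ ⟶ bgPt) : trivTors (G := G) ξ.base ⟶ ξ :=
  (exists_chart b).choose

lemma chart_base {ξ : (AlgSt.BG K₀ G).obj} (b : ξ ⟶ bgPt) : (chart b).base = 𝟙 _ :=
  (exists_chart b).choose_spec.1

lemma chart_comp {ξ : (AlgSt.BG K₀ G).obj} (b : ξ ⟶ bgPt) : chart b ≫ b = canon ξ.base :=
  (exists_chart b).choose_spec.2

/-- The element of the group comparing two arrows to the point. -/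
def bgDif {ξ : (AlgSt.BG K₀ G).obj} (a b : ξ ⟶ bgPt) : ξ.base ⟶ G := gpElt (chart b ≫ a)

lemma bgDif_res {ξ ζ : (AlgSt.BG K₀ G).obj} (f : ζ ⟶ ξ) (a b : ξ ⟶ bgPt) :
    f.base ≫ bgDif a b = bgDif (f ≫ a) (f ≫ b) := by
  have hp : FibCat.IsFibGrpd (AlgSt.BG K₀ G).p := quotSt_fibGrpd
  obtain ⟨k, hk, hk'⟩ := exists_hom_over (𝒢 := 𝔅) hp (chart b) (chart (f ≫ b) ≫ f) f.base (by
    change f.base ≫ (chart b).base = (chart (f ≫ b) ≫ f).base
    rw [chart_base]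
    change f.base ≫ 𝟙 _ = (chart (f ≫ b)).base ≫ f.base
    rw [chart_base, Category.comp_id, Category.id_comp])
  have h1 : gpElt k = 1 := by
    have e : gpElt (k ≫ canon ξ.base) = 1 := by
      rw [← chart_comp b, ← Category.assoc, hk', Category.assoc, chart_comp (f ≫ b)]
      exact gpElt_canon _
    rw [gpElt_comp] at e
    refine (_root_.mul_one (gpElt k)).symm.trans ((congrArg (gpElt k * ·) ?_).trans e)
    exact ((congrArg (k.base ≫ ·) (gpElt_canon ξ.base)).trans (comp_one _)).symm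
  have hkb : k.base = f.base := hk
  rw [bgDif, bgDif, ← Category.assoc (chart (f ≫ b)) f a, ← hk', Category.assoc, gpElt_comp, h1,
    _root_.one_mul, hkb]

lemma bgDif_mul {ξ : (AlgSt.BG K₀ G).obj} (a b c : ξ ⟶ bgPt) :
    bgDif b c * bgDif a b = bgDif a c := by
  obtain ⟨k, hk, hk'⟩ := exists_hom_over (𝒢 := 𝔅) quotSt_fibGrpd (chart b) (chart c) (𝟙 _) (by
    change 𝟙 _ ≫ (chart b).base = (chart c).base
    rw [chart_base, chart_base, Category.id_comp])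
  have hkb : k.base = 𝟙 _ := hk
  have h1 : gpElt k = bgDif b c := by
    rw [bgDif, ← hk', Category.assoc, chart_comp, gpElt_comp]
    refine ((congrArg (gpElt k * ·) ?_).trans (_root_.mul_one _)).symm
    exact (congrArg (k.base ≫ ·) (gpElt_canon ξ.base)).trans (comp_one _)
  conv_rhs => rw [bgDif, ← hk', Category.assoc, gpElt_comp, h1, hkb]
  exact congrArg (bgDif b c * ·) (Category.id_comp _).symm

lemma bgDif_inj {ξ : (AlgSt.BG K₀ G).obj} {a a' b : ξ ⟶ bgPt} (h : bgDif a b = bgDif a' b) :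
    a = a' := by
  have he := gpElt_ext h
  haveI : IsIso ((AlgSt.BG K₀ G).p.map (chart b)) := by
    change IsIso (chart b).base
    rw [chart_base]
    exact inferInstanceAs (IsIso (𝟙 _))
  haveI := isIso_of_map_isIso (quotSt_fibGrpd (K := K₀) (G := G) (aX := trivAction G)) (chart b)
  exact (cancel_epi (chart b)).1 he

lemma bgDif_surj {ξ : (AlgSt.BG K₀ G).obj} (b : ξ ⟶ bgPt) (g : ξ.base ⟶ G) :
    ∃ a, bgDif a b = g := by
  haveI : IsIso ((AlgSt.BG K₀ G).p.map (chart b)) := by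
    change IsIso (chart b).base
    rw [chart_base]
    exact inferInstanceAs (IsIso (𝟙 _))
  haveI := isIso_of_map_isIso (quotSt_fibGrpd (K := K₀) (G := G) (aX := trivAction G)) (chart b)
  refine ⟨inv (chart b) ≫ homOfSec (lift g (Over.mkIdTerminal.from ξ.base)) (toUnit_unique _ _), ?_⟩
  rw [bgDif, IsIso.hom_inv_id_assoc, gpElt, secOfHom_homOfSec]
  exact lift_fst _ _

lemma bg_cover (ξ : (AlgSt.BG K₀ G).obj) : ∃ R ∈ StCoh.J K₀ (AlgSt.BG K₀ G) ξ,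
    ∀ ⦃ζ : (AlgSt.BG K₀ G).obj⦄ (φ : ζ ⟶ ξ), R φ → Nonempty (ζ ⟶ bgPt) := by
  have hp : FibCat.IsFibGrpd (AlgSt.BG K₀ G).p := quotSt_fibGrpd
  let R : Sieve ξ :=
    { arrows := fun ζ _ => Nonempty (ζ ⟶ bgPt)
      downward_closed := fun ⟨a⟩ g => ⟨g ≫ a⟩ }
  refine ⟨R, (H14Stk.mem_restricted_iff hp _ R).2 ?_, fun _ _ h => h⟩
  obtain ⟨R₀, hR₀, h⟩ := locCovers_trivTors (G := G) ξ
  refine GrothendieckTopology.superset_covering _ (fun V f hf => ?_) hR₀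
  obtain ⟨T, m, hm⟩ := h f hf
  obtain rfl : T = V := IsHomLift.domain_eq (AlgSt.BG K₀ G).p f m
  rw [IsHomLift.fac (AlgSt.BG K₀ G).p f m, eqToHom_refl, Category.id_comp, eqToHom_refl,
    Category.comp_id]
  exact (H14Stk.push_map_iff hp R m).2 ⟨canon T⟩

end BG

section Mu

open MonoidalCategory CartesianMonoidalCategory MonObj AlgSt H18Torsor.DiagExact

variable {n : ℕ}

local notation "K₀" => Scheme.fppfPrecoverage

/-- The unit attached to a point of `μ_n`. -/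
def muUnit {T : Over X} (x : T ⟶ Red.DS X (ZMod n)) : (Γ(T.left, ⊤))ˣ :=
  GmPts.unitOfPt (x ≫ Red.chi X (1 : ZMod n))

lemma muUnit_mul {T : Over X} (x y : T ⟶ Red.DS X (ZMod n)) :
    muUnit (x * y) = muUnit x * muUnit y := by
  haveI : IsMonHom (Red.chi X (1 : ZMod n)) := Groth.Agent.H21Diag.isMonHom_DSmap X _
  refine (congrArg GmPts.unitOfPt (mul_comp x y (Red.chi X (1 : ZMod n)))).trans ?_
  exact map_mul (GmPts.equiv (S := X) T) _ _

lemma muUnit_comp {T T' : Over X} (f : T' ⟶ T) (x : T ⟶ Red.DS X (ZMod n)) :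
    muUnit (f ≫ x) = uRes f (muUnit x) := by
  exact (congrArg GmPts.unitOfPt (Category.assoc _ _ _)).trans (GmPts.unitOfPt_comp _ _)

lemma val_muUnit {T : Over X} (x : T ⟶ Red.DS X (ZMod n)) :
    (muUnit x : Γ(T.left, ⊤)) = chr x (Multiplicative.ofAdd (1 : ZMod n)) := by
  refine (show _ = chr (x ≫ Red.chi X (1 : ZMod n)) (Multiplicative.ofAdd (1 : ℤ)) from rfl).trans ?_
  rw [Red.chi, chr_comp_DSmap]
  simp

lemma muUnit_pow {T : Over X} (x : T ⟶ Red.DS X (ZMod n)) : muUnit x ^ n = 1 := by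
  ext
  rw [Units.val_pow_eq_pow_val, val_muUnit, ← map_pow, ← ofAdd_nsmul, nsmul_one,
    ZMod.natCast_self, ofAdd_zero, map_one, Units.val_one]

lemma muUnit_injective [NeZero n] {T : Over X} {x y : T ⟶ Red.DS X (ZMod n)}
    (h : muUnit x = muUnit y) : x = y := by
  refine chr_ext (MonoidHom.ext fun m => ?_)
  have e : m = Multiplicative.ofAdd (1 : ZMod n) ^ (Multiplicative.toAdd m).val := by
    rw [← ofAdd_nsmul, nsmul_one, ZMod.natCast_zmod_val, ofAdd_toAdd]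
  rw [e, map_pow, map_pow, ← val_muUnit, ← val_muUnit, h]

lemma muUnit_surjective [NeZero n] {T : Over X} (v : (Γ(T.left, ⊤))ˣ) (hv : v ^ n = 1) :
    ∃ x : T ⟶ Red.DS X (ZMod n), muUnit x = v := by
  have h0 : (v : Γ(T.left, ⊤)) ^ n = 1 := by
    rw [← Units.val_pow_eq_pow_val, hv, Units.val_one]
  obtain ⟨x, hx⟩ := chr_surjective (T := T) (M := ZMod n)
    { toFun := fun m => (v : Γ(T.left, ⊤)) ^ (Multiplicative.toAdd m).val
      map_one' := by simp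
      map_mul' := fun a b => by
        rw [← pow_add, toAdd_mul, ZMod.val_add]
        exact (pow_eq_pow_mod _ h0).symm }
  refine ⟨x, Units.ext ?_⟩
  rw [val_muUnit, hx]
  change (v : Γ(T.left, ⊤)) ^ ((1 : ZMod n)).val = v
  rcases eq_or_ne n 1 with rfl | h1
  · simp only [pow_one] at h0
    rw [h0, one_pow]
  · haveI : Fact (1 < n) := ⟨Nat.lt_of_le_of_ne NeZero.one_le h1.symm⟩
    rw [ZMod.val_one, pow_one]

/-- The classifying stack of `μ_n` has a point with automorphisms the roots of unity. -/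
def muPoint [NeZero n] : MuPoint (AlgSt.BG K₀ (Red.DS X (ZMod n))) n where
  pt := bgPt
  fib := H14Quot.quotSt_fibGrpd
  base := Over.mkIdTerminal
  cover := bg_cover
  dif a b := muUnit (bgDif a b)
  dif_pow a b := muUnit_pow _
  dif_res f a b := (muUnit_comp f.base (bgDif a b)).symm.trans (congrArg muUnit (bgDif_res f a b))
  dif_mul a b c := by rw [mul_comm, ← muUnit_mul, bgDif_mul]
  dif_inj h := bgDif_inj (muUnit_injective h)
  dif_surj b v hv := by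
    obtain ⟨g, hg⟩ := muUnit_surjective v hv
    obtain ⟨a, ha⟩ := bgDif_surj b g
    exact ⟨a, (congrArg muUnit ha).trans hg⟩

end Mu

end Groth.Agent.H14MuCoh
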