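import Groth.Agent.H14MuCoh.Two
import Groth.Agent.H14GerbeCoh.Extend

/-!
# The first higher direct image of the multiplicative group
-/

set_option autoImplicit false
set_option backward.isDefEq.respectTransparency false
set_option backward.isDefEq.respectTransparency.types false

universe u

open CategoryTheory CategoryTheory.Limits AlgebraicGeometry Opposite

noncomputable section

namespace Groth.Agent.H14MuCoh

open H14GerbeCoh

variable {X : Scheme.{u}} {𝒢 : AlgSt.Cat X} {n : ℕ} (P : MuPoint 𝒢 n)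

local notation "K₀" => Scheme.fppfPrecoverage

variable [StCoh.BaseCont K₀ 𝒢] [StCoh.MorCocont K₀ (FibCat.toSelf 𝒢)]

/-- A morphism of sheaves has local lifts of the sections killed by its cokernel. -/
lemma exists_local_of_cokernel {A B : StCoh.Ab K₀ (self X)} (g : A ⟶ B) {T : Over X}
    (s : sec B T) (h : app (cokernel.π g) T s = 0) :
    ∃ R ∈ StCoh.J K₀ (self X) T, ∀ ⦃V : Over X⦄ (φ : V ⟶ T), R φ →
      ∃ a, app g V a = res B φ s := by
  have w : Abelian.image.ι g ≫ cokernel.π g = 0 := kernel.condition _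
  have hS : (ShortComplex.mk (Abelian.image.ι g) (cokernel.π g) w).ShortExact :=
    { exact := ShortComplex.exact_kernel (cokernel.π g)
      mono_f := inferInstanceAs (Mono (kernel.ι _))
      epi_g := inferInstanceAs (Epi (cokernel.π g)) }
  obtain ⟨a, ha⟩ := exists_of_app_eq_zero w hS h
  have : Sheaf.IsLocallySurjective (Abelian.factorThruImage g) :=
    (Sheaf.isLocallySurjective_iff_epi' _ _).2 inferInstance
  refine ⟨_, Presheaf.imageSieve_mem (StCoh.J K₀ (self X)) (Abelian.factorThruImage g).hom a,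
    fun V φ hφ => ?_⟩
  obtain ⟨b, hb⟩ := hφ
  refine ⟨b, ?_⟩
  rw [show app g V b = app (Abelian.factorThruImage g ≫ Abelian.image.ι g) V b by
    rw [Abelian.image.fac]]
  exact (congrArg (app (Abelian.image.ι g) V) hb).trans
    ((app_res _ φ a).trans (congrArg (res B φ) ha))

section Class

variable {J Q : StCoh.Ab K₀ 𝒢} {i : StCoh.Gm K₀ 𝒢 ⟶ J} {π : J ⟶ Q} (w : i ≫ π = 0)
  (hS : (ShortComplex.mk i π w).ShortExact)

include hS in
/-- The tautological class. -/
lemma exists_class [Injective J] :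
    ∃ (l : sec J P.pt) (t : sec (fPush Q) (𝒢.p.obj P.pt)),
      (∀ ξ (a b : ξ ⟶ P.pt), res J a l - res J b l = app i ξ (gP ξ (P.dif a b))) ∧
      toFam t P.pt (𝟙 _) = app π P.pt l ∧
      ∃ s : sec (fPush J) (𝒢.p.obj P.pt),
        app ((StCoh.push K₀ (FibCat.toSelf 𝒢)).map π) _ s = n • t := by
  obtain ⟨l, hl⟩ := exists_primitive J P.pt (fun ξ a b => app i ξ (gP ξ (P.dif a b)))
    (fun ξ η f a b => by
      rw [← app_res]
      exact congrArg (app i η) (gU_injective η (by rw [gU_res, gU_gP, gU_gP, P.dif_res])))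
    (fun ξ a b c => by
      rw [← map_add]
      exact congrArg (app i ξ) (gU_injective ξ (by rw [gU_add, gU_gP, gU_gP, gU_gP, P.dif_mul])))
  obtain ⟨t, ht⟩ := exists_fam_of_parallel P Q (𝟙 P.pt) (app π P.pt l) fun ξ a b _ => by
    rw [← app_res, ← app_res, ← sub_eq_zero, ← map_sub, hl, app_comp_eq_zero w]
  obtain ⟨s, hs⟩ := exists_fam_of_parallel P J (𝟙 P.pt) (n • l) fun ξ a b _ => by
    rw [← sub_eq_zero, map_nsmul, map_nsmul, ← smul_sub, hl, ← map_nsmul,
      show n • gP ξ (P.dif a b) = 0 from gU_injective ξ (by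
        rw [gU_nsmul, gU_gP, P.dif_pow, gU_zero]), map_zero]
  refine ⟨l, t, hl, ht, s, fam_ext P (𝟙 P.pt) rfl ?_⟩
  rw [toFam_map, eqToHom_refl, hs, map_nsmul, ← ht, ← toFamHom_apply, ← toFamHom_apply, map_nsmul]

variable {l : sec J P.pt} {t : sec (fPush Q) (𝒢.p.obj P.pt)}
  (hl : ∀ ξ (a b : ξ ⟶ P.pt), res J a l - res J b l = app i ξ (gP ξ (P.dif a b)))
  (ht : toFam t P.pt (𝟙 _) = app π P.pt l)

include hl in
lemma shift_class {η : 𝒢.obj} (C : Chart P η) :
    res J C.gen (res J C.m l) - res J C.m l = app i η (gP η (P.ev C.m C.gen)) := by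
  rw [← res_comp]
  exact hl η _ _

include ht in
lemma toFam_class {η : 𝒢.obj} (m : η ⟶ P.pt) {T : Over X} (c : 𝒢.p.obj η ⟶ T) :
    toFam (res (fPush Q) (P.base.from T) t) η c = app π η (res J m l) := by
  rw [toFam_res, app_res, ← ht, toFam_natural]
  exact congrArg _ (P.base.hom_ext _ _)

include hS hl ht in
lemma dvd_of_local_lift (hn : 0 < n) (hinv : IsUnit (n : Γ(X, ⊤))) {T : Over X} {j : ℕ}
    (s : sec (fPush J) T) (hne : Nonempty T.left)
    (h : app ((StCoh.push K₀ (FibCat.toSelf 𝒢)).map π) T s = j • res (fPush Q) (P.base.from T) t) :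
    n ∣ j := by
  obtain ⟨z⟩ := hne
  obtain ⟨η, c, ⟨-, -, v, -⟩, ⟨C⟩⟩ := exists_chart_member P hn T z
  have h0 : app π η (toFam s η c - j • res J C.m l) = 0 := by
    rw [map_sub, map_nsmul, ← toFam_map, h, ← toFamHom_apply, map_nsmul, toFamHom_apply,
      toFam_class P ht C.m, sub_self]
  obtain ⟨e, he⟩ := exists_of_app_eq_zero w hS h0
  have h1 : j • app i η (gP η (P.ev C.m C.gen)) = 0 := by
    have h2 : res J C.gen (toFam s η c - j • res J C.m l) = toFam s η c - j • res J C.m l := by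
      rw [← he, ← app_res, res_vert C.gen_vert]
    rw [map_sub, map_nsmul, toFam_natural, C.gen_vert, Category.id_comp, sub_right_inj] at h2
    rw [← shift_class P hl C, smul_sub, h2, sub_self]
  rw [← map_nsmul] at h1
  have h2 : gU (j • gP η (P.ev C.m C.gen)) = gU 0 :=
    congrArg gU (app_injective w hS η (h1.trans (map_zero _).symm))
  rw [gU_nsmul, gU_gP, gU_zero] at h2
  have h3 : C.root ^ j = 1 := by
    rw [← C.ev_gen, ← Units.val_pow_eq_pow_val, h2, Units.val_one]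
  haveI : Nonempty (⊤ : (𝒢.p.obj η).left.Opens) := ⟨⟨v, trivial⟩⟩
  exact C.cyclo.dvd_of_pow_eq_one (isUnit_natCast_obj hinv _) h3

include hS hl ht in
lemma exists_local_class (hn : 0 < n) (hinv : IsUnit (n : Γ(X, ⊤))) {T : Over X}
    (q : sec (fPush Q) T) (z : T.left) :
    ∃ (V : Over X) (c : V ⟶ T) (s : sec (fPush J) V) (j : ℕ), Reaches c z ∧
      app ((StCoh.push K₀ (FibCat.toSelf 𝒢)).map π) V s + j • res (fPush Q) (P.base.from V) t =
        res (fPush Q) c q := by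
  have hp := P.fib
  obtain ⟨η₀, c₀, ⟨hc1, hc2, v₀, rfl⟩, ⟨C₀⟩⟩ := exists_chart_member P hn T z
  obtain ⟨R₁, hR₁, hlift⟩ := exists_local_lift w hS (toFam q η₀ c₀)
  obtain ⟨η₁, φ₁, hφ₁, ⟨hf1, hf2, v₁, hv₁⟩⟩ := exists_memb hp hR₁ v₀
  obtain ⟨W, hW⟩ := hlift φ₁ hφ₁
  obtain ⟨C₁, hC₁, -⟩ := C₀.exists_pull hn φ₁
  have h0 : app π η₁ (res J C₁.gen W - W) = 0 := by
    rw [map_sub, app_res, hW, toFam_natural, toFam_natural, C₁.gen_vert, Category.id_comp, sub_self]
  obtain ⟨c, hc⟩ := exists_of_app_eq_zero w hS h0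
  have hc0 : n • c = 0 := by
    refine app_injective w hS η₁ ?_
    rw [map_nsmul, map_zero]
    calc n • app i η₁ c = ∑ k ∈ Finset.range n, app i η₁ (res (StCoh.Gm K₀ 𝒢) (pw C₁.gen k) c) := by
          rw [Finset.sum_congr rfl (fun k _ => by rw [res_vert (pw_map C₁.gen_vert k)]),
            Finset.sum_const, Finset.card_range]
      _ = ∑ k ∈ Finset.range n, (res J (pw C₁.gen (k + 1)) W - res J (pw C₁.gen k) W) :=
          Finset.sum_congr rfl fun k _ => by rw [app_res, hc, map_sub, ← res_comp]; rfl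
      _ = 0 := by
          rw [sum_range_shift (fun k => res J (pw C₁.gen k) W), C₁.pw_gen]
          exact sub_self _
  have hv : (gU c : Γ((𝒢.p.obj η₁).left, ⊤)) ^ n = 1 := by
    rw [← Units.val_pow_eq_pow_val, ← gU_nsmul, hc0, gU_zero, Units.val_one]
  obtain ⟨U, hU, j, -, hj⟩ := exists_local_log C₁.cyclo (isUnit_natCast_obj hinv _) hn hv v₁
  obtain ⟨η₂, φ₂, hφ₂⟩ := exists_pull hp η₁
    (Over.homMk (U := Over.mk (U.ι ≫ (𝒢.p.obj η₁).hom)) U.ι rfl)
  obtain ⟨⟨hg1, hg2, v₂, hv₂⟩, hj'⟩ := hφ₂ (fun V g => Reaches g v₁ ∧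
      g.left.appTop (gU c : Γ((𝒢.p.obj η₁).left, ⊤)) = g.left.appTop (C₁.root ^ j))
    ⟨⟨inferInstanceAs (Flat U.ι), inferInstanceAs (LocallyOfFinitePresentation U.ι),
      ⟨⟨v₁, hU⟩, rfl⟩⟩, hj⟩
  obtain ⟨C₂, hC₂, hr₂⟩ := C₁.exists_pull hn φ₂
  let W' : sec J η₂ := res J φ₂ W - j • res J C₂.m l
  have hW' : res J C₂.gen W' = W' := by
    rw [← sub_eq_zero]
    simp only [W', map_sub, map_nsmul]
    rw [show ∀ a b c d : sec J η₂, a - b - (c - d) = a - c - (b - d) from fun a b c d => by abel,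
      ← smul_sub, shift_class P hl C₂, ← res_comp, hC₂, res_comp, ← map_sub, ← hc, ← app_res,
      ← map_nsmul, ← map_sub]
    refine (congrArg (app i η₂) (sub_eq_zero.2 (gU_injective η₂ ?_))).trans (map_zero _)
    rw [gU_res, gU_nsmul, gU_gP]
    refine Units.ext ?_
    rw [Units.val_pow_eq_pow_val, C₂.ev_gen, hr₂, ← map_pow]
    exact hj'
  obtain ⟨s, hs⟩ := C₂.exists_fam hn hinv J W' hW'
  refine ⟨𝒢.p.obj η₂, 𝒢.p.map φ₂ ≫ 𝒢.p.map φ₁ ≫ c₀, s, j, ?_, fam_ext P C₂.m rfl ?_⟩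
  · obtain ⟨a1, a2, -⟩ := reaches_comp hc1 hc2 rfl (g := 𝒢.p.map φ₁) ⟨hf1, hf2, v₁, hv₁⟩
    exact reaches_comp a1 a2 (by rw [Over.comp_left, Scheme.Hom.comp_apply, hv₁])
      (g := 𝒢.p.map φ₂) ⟨hg1, hg2, v₂, hv₂⟩
  · rw [← toFamHom_apply, map_add, map_nsmul, toFamHom_apply, toFamHom_apply, toFam_map,
      eqToHom_refl, hs, toFam_class P ht C₂.m, toFam_res, Category.id_comp]
    simp only [W', map_sub, map_nsmul, sub_add_cancel]
    rw [app_res, hW, toFam_natural, toFam_natural]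

end Class

variable [StCoh.MorCont K₀ (FibCat.toSelf 𝒢)]

include P in
theorem nonempty_Rpush_one (hn : 0 < n) (hinv : IsUnit (n : Γ(X, ⊤))) :
    Nonempty ((StCoh.Rpush K₀ (FibCat.toSelf 𝒢) 1).obj (StCoh.Gm K₀ 𝒢) ≅
      StCoh.const K₀ (self X) (ZMod n)) := by
  classical
  haveI : NeZero n := ⟨hn.ne'⟩
  let F := StCoh.push K₀ (FibCat.toSelf 𝒢)
  haveI : PreservesFiniteLimits F :=
    have := (StCoh.pullPushAdj K₀ (FibCat.toSelf 𝒢)).rightAdjoint_preservesLimits
    inferInstance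
  obtain ⟨J, Q, i, π, w, hJ, hS⟩ := exists_injective_seq (StCoh.Gm K₀ 𝒢)
  obtain ⟨e₁⟩ := Groth.Agent.H15Site.HigherDirect.nonempty_rightDerived_one_iso F hS
    (F.isZero_rightDerived_obj_injective_succ 0 J)
  let Co := cokernel (F.map π)
  let pr : fPush Q ⟶ Co := cokernel.π (F.map π)
  obtain ⟨l, t, hl, ht, s, hst⟩ := exists_class P w hS
  let cl : ∀ T : Over X, sec Co T := fun T => res Co (P.base.from T) (app pr _ t)
  have hcl : ∀ T, n • cl T = 0 := fun T => by
    rw [← map_nsmul, ← map_nsmul, ← hst, app_comp_eq_zero (cokernel.condition _), map_zero]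
  have hclr : ∀ {T T' : Over X} (f : T' ⟶ T), res Co f (cl T) = cl T' := fun f => by
    rw [← res_comp]
    exact congrArg (fun g => res Co g _) (P.base.hom_ext _ _)
  let Z : (self X).objᵒᵖ ⥤ AddCommGrpCat.{u + 1} :=
    (Functor.const _).obj (AddCommGrpCat.of (ULift.{u + 1} (ZMod n)))
  let L : ∀ T : Over X, ZMod n →+ sec Co T := fun T =>
    ZMod.lift n ⟨zmultiplesHom _ (cl T), by
      change (n : ℤ) • cl T = 0
      rw [natCast_zsmul, hcl]⟩
  have hL : ∀ (T : Over X) (m : ℤ), L T (m : ZMod n) = m • cl T := fun T m => ZMod.lift_coe _ _ _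
  let ψ₀ : Z ⟶ Co.obj :=
    { app := fun T => AddCommGrpCat.ofHom ((L T.unop).comp AddEquiv.ulift.toAddMonoidHom)
      naturality := fun T T' f => by
        apply AddCommGrpCat.hom_ext
        refine AddMonoidHom.ext fun (k : ULift.{u + 1} (ZMod n)) => ?_
        obtain ⟨m, hm⟩ := ZMod.intCast_surjective k.down
        change L T'.unop k.down = res Co f.unop (L T.unop k.down)
        rw [← hm, hL, hL, map_zsmul, hclr] }
  have hψ₀ : ∀ (T : Over X) (j : ℕ),
      (ψ₀.app (op T)).hom ⟨(j : ZMod n)⟩ = app pr T (j • res (fPush Q) (P.base.from T) t) := by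
    intro T j
    change L T (j : ZMod n) = _
    rw [← Int.cast_natCast, hL, natCast_zsmul, map_nsmul, app_res]
  let ψ : StCoh.const K₀ (self X) (ZMod n) ⟶ Co :=
    ⟨sheafifyLift (StCoh.J K₀ (self X)) ψ₀ Co.property⟩
  have fac : toSheafify (StCoh.J K₀ (self X)) Z ≫ ψ.hom = ψ₀ :=
    toSheafify_sheafifyLift _ _ _
  have hsurj : Presheaf.IsLocallySurjective (StCoh.J K₀ (self X)) ψ₀ := ⟨fun {T} r => by
    have : Sheaf.IsLocallySurjective pr :=
      (Sheaf.isLocallySurjective_iff_epi' _ _).2 inferInstance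
    have hR := Presheaf.imageSieve_mem (StCoh.J K₀ (self X)) pr.hom r
    refine mem_of_reaches H14Fib.selfOver_fibGrpd fun z => ?_
    obtain ⟨T₁, φ, ⟨q, hq⟩, ⟨hf1, hf2, v, hv⟩⟩ := exists_memb H14Fib.selfOver_fibGrpd hR z
    obtain ⟨V, c, s', j, hr, he⟩ := exists_local_class P w hS hl ht hn hinv q v
    refine ⟨V, c ≫ φ, ⟨⟨(j : ZMod n)⟩, ?_⟩, reaches_comp hf1 hf2 hv hr⟩
    refine (hψ₀ V j).trans ?_
    calc app pr V (j • res (fPush Q) (P.base.from V) t)
        = app pr V (res (fPush Q) c q) := by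
          rw [← he, map_add, app_comp_eq_zero (cokernel.condition _), zero_add]
      _ = res Co c (app pr T₁ q) := app_res pr c q
      _ = _ := by rw [show app pr T₁ q = res Co φ r from hq, ← res_comp]⟩
  have hinj : Presheaf.IsLocallyInjective (StCoh.J K₀ (self X)) ψ₀ := ⟨fun {T} a b hab => by
    by_cases hne : Nonempty T.unop.left
    · suffices a = b by
        rw [this, Presheaf.equalizerSieve_self_eq_top]
        exact GrothendieckTopology.top_mem _ _
      obtain ⟨j, hj⟩ : ∃ j : ℕ, (j : ZMod n) = a.down - b.down :=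
        ⟨(a.down - b.down).val, ZMod.natCast_zmod_val _⟩
      have h0 : (ψ₀.app T).hom ⟨(j : ZMod n)⟩ = 0 := by
        rw [show (⟨(j : ZMod n)⟩ : ULift.{u + 1} (ZMod n)) = a - b from ULift.ext _ _ hj]
        exact (map_sub (ψ₀.app T).hom a b).trans (sub_eq_zero.2 hab)
      rw [hψ₀ T.unop j] at h0
      obtain ⟨R, hR, hlift⟩ := exists_local_of_cokernel _ _ h0
      obtain ⟨z⟩ := hne
      obtain ⟨V, φ, hφ, ⟨-, -, v, -⟩⟩ := exists_memb H14Fib.selfOver_fibGrpd hR z
      obtain ⟨s', hs'⟩ := hlift φ hφ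
      have := dvd_of_local_lift P w hS hl ht hn hinv s' ⟨v⟩ (hs'.trans (by
        rw [map_nsmul, ← res_comp]
        exact congrArg (fun g => j • res (fPush Q) g t) (P.base.hom_ext _ _)))
      exact ULift.ext _ _ (sub_eq_zero.1
        (hj.symm.trans ((ZMod.natCast_eq_zero_iff _ _).2 this)))
    · exact mem_of_reaches H14Fib.selfOver_fibGrpd fun z => (hne ⟨z⟩).elim⟩
  haveI : Epi ψ := by
    refine (Sheaf.isLocallySurjective_iff_epi' _ _).1 ?_
    exact Presheaf.isLocallySurjective_of_isLocallySurjective_fac (StCoh.J K₀ (self X)) fac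
  haveI : Mono ψ := by
    haveI : Sheaf.IsLocallyInjective ψ :=
      Presheaf.isLocallyInjective_of_isLocallyInjective_of_isLocallySurjective_fac
        (J := StCoh.J K₀ (self X)) (f₃ := ψ₀) fac
    exact Sheaf.mono_of_isLocallyInjective ψ
  haveI : IsIso ψ := isIso_of_mono_of_epi ψ
  exact ⟨e₁ ≪≫ (asIso ψ).symm⟩

end Groth.Agent.H14MuCoh
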