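import Groth.Agent.H14GerbeCoh.Hom
import Groth.Agent.H14Gerbe.LocLift

/-!
# The fppf site of a category fibred in groupoids over any scheme
-/

set_option autoImplicit false
set_option backward.isDefEq.respectTransparency false
set_option backward.isDefEq.respectTransparency.types false

universe u

open CategoryTheory CategoryTheory.Functor CategoryTheory.Limits AlgebraicGeometry Opposite

noncomputable section

namespace Groth.Agent.H14MuCoh

open H14Fib H14Stk H14GerbeCoh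

variable {S : Scheme.{u}} {𝒢 : AlgSt.Cat S}

local notation "K₀" => Scheme.fppfPrecoverage

/-- A point is reached by the base of an object flatly and with finite presentation. -/
abbrev Reaches {T V : Over S} (h : V ⟶ T) (z : T.left) : Prop :=
  Flat h.left ∧ LocallyOfFinitePresentation h.left ∧ z ∈ Set.range h.left

lemma reaches_comp {T V W : Over S} {h : V ⟶ T} {g : W ⟶ V} {z : T.left} {v : V.left}
    (h1 : Flat h.left) (h2 : LocallyOfFinitePresentation h.left) (hv : h.left v = z)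
    (hg : Reaches g v) : Reaches (g ≫ h) z := by
  obtain ⟨g1, g2, ⟨w, hw⟩⟩ := hg
  have : Flat (g.left ≫ h.left) := inferInstance
  exact ⟨this, inferInstanceAs (LocallyOfFinitePresentation (g.left ≫ h.left)), w, by
    rw [Over.comp_left, Scheme.Hom.comp_apply, hw, hv]⟩

/-- Pullback of an object, all properties transported. -/
lemma exists_pull (hp : FibCat.IsFibGrpd 𝒢.p) (x : 𝒢.obj) {T : Over S} (f : T ⟶ 𝒢.p.obj x) :
    ∃ (y : 𝒢.obj) (φ : y ⟶ x), ∀ (Q : ∀ V : Over S, (V ⟶ 𝒢.p.obj x) → Prop),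
      Q T f → Q _ (𝒢.p.map φ) := by
  obtain ⟨y, φ, e, hφ⟩ := exists_pullObj hp x f
  subst e
  rw [eqToHom_refl, Category.id_comp] at hφ
  exact ⟨y, φ, fun Q h => hφ ▸ h⟩

/-- Members of a covering sieve through a given point. -/
lemma exists_memb (hp : FibCat.IsFibGrpd 𝒢.p) {x : 𝒢.obj} {R : Sieve x}
    (hR : R ∈ StCoh.J K₀ 𝒢 x) (t : (𝒢.p.obj x).left) :
    ∃ (η : 𝒢.obj) (φ : η ⟶ x), R φ ∧ Reaches (𝒢.p.map φ) t := by
  obtain ⟨κ, C, c, h1, h2, h3, h4⟩ :=
    H13AlgSp.exists_cover_of_mem_J ((H14Stk.mem_restricted_iff hp _ R).1 hR)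
  obtain ⟨i, hi⟩ := h3 t
  obtain ⟨η, φ, hφ⟩ := exists_pull hp x (c i)
  exact ⟨η, φ, (H14Stk.push_map_iff hp R φ).1 (hφ (fun V g => R.functorPushforward 𝒢.p g) (h4 i)),
    hφ (fun V g => Reaches g t) ⟨h1 i, h2 i, hi⟩⟩

/-- A sieve with a flat, finitely presented member through each point covers. -/
lemma mem_of_reaches (hp : FibCat.IsFibGrpd 𝒢.p) {x : 𝒢.obj} {R : Sieve x}
    (h : ∀ t : (𝒢.p.obj x).left, ∃ (η : 𝒢.obj) (φ : η ⟶ x), R φ ∧ Reaches (𝒢.p.map φ) t) :
    R ∈ StCoh.J K₀ 𝒢 x := by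
  choose η φ hφ h1 using h
  refine (H14Stk.mem_restricted_iff hp _ R).2 ((QuotSh.J K₀ _).superset_covering ?_
    (H14Gerbe.mem_J_of_fppf (fun t => 𝒢.p.obj (η t)) (fun t => 𝒢.p.map (φ t))
      (fun t => (h1 t).1) (fun t => (h1 t).2.1) fun t => ⟨t, (h1 t).2.2⟩))
  rintro V f ⟨W, a, _, ⟨t⟩, rfl⟩
  exact (R.functorPushforward 𝒢.p).downward_closed ((H14Stk.push_map_iff hp R _).2 (hφ t)) a

/-- Sections over an empty object are equal. -/
lemma sec_eq_of_isEmpty (hp : FibCat.IsFibGrpd 𝒢.p) (F : StCoh.Ab K₀ 𝒢) {x : 𝒢.obj}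
    (he : IsEmpty (𝒢.p.obj x).left) (s t : sec F x) : s = t :=
  sec_ext F (R := ⊥) (mem_of_reaches hp fun z => he.elim z) fun _ _ h => h.elim

end Groth.Agent.H14MuCoh
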