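import Groth.Agent.H14MuCoh.Gm
import Groth.Agent.H14MuCoh.Cyclic
import Groth.Agent.H14Fib.Fp
import Groth.Agent.H15Site.HigherDirect

/-!
# Vanishing of the second higher direct image of the multiplicative group
-/

set_option autoImplicit false
set_option backward.isDefEq.respectTransparency false
set_option backward.isDefEq.respectTransparency.types false

universe u

open CategoryTheory CategoryTheory.Limits AlgebraicGeometry Opposite

noncomputable section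

namespace Groth.Agent.H14MuCoh

open H14GerbeCoh

variable {X : Scheme.{u}} {𝒢 : AlgSt.Cat X} {n : ℕ} (P : MuPoint 𝒢 n)

local notation "K₀" => Scheme.fppfPrecoverage

variable [StCoh.BaseCont K₀ 𝒢] [StCoh.MorCocont K₀ (FibCat.toSelf 𝒢)]

lemma sum_range_shift {A : Type*} [AddCommGroup A] (f : ℕ → A) (k : ℕ) :
    ∑ i ∈ Finset.range k, (f (i + 1) - f i) = f k - f 0 := Finset.sum_range_sub f k

include P in
/-- The lifting of sections of the direct image of the second syzygy. -/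
lemma exists_lift_two (hn : 0 < n) (hinv : IsUnit (n : Γ(X, ⊤)))
    {J Q J' R : StCoh.Ab K₀ 𝒢} {i : StCoh.Gm K₀ 𝒢 ⟶ J} {π : J ⟶ Q} (w : i ≫ π = 0)
    (hS : (ShortComplex.mk i π w).ShortExact) [Injective J] {i' : Q ⟶ J'} {π' : J' ⟶ R}
    (w' : i' ≫ π' = 0) (hS' : (ShortComplex.mk i' π' w').ShortExact)
    {T : Over X} (r : sec (fPush R) T) (z : T.left) :
    ∃ (η : 𝒢.obj) (c : 𝒢.p.obj η ⟶ T) (t : sec (fPush J') (𝒢.p.obj η)), Reaches c z ∧
      app ((StCoh.push K₀ (FibCat.toSelf 𝒢)).map π') (𝒢.p.obj η) t = res (fPush R) c r := by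
  have hp := P.fib
  obtain ⟨η₀, c₀, ⟨hc1, hc2, v₀, rfl⟩, ⟨C₀⟩⟩ := exists_chart_member P hn T z
  obtain ⟨R₁, hR₁, hl⟩ := exists_local_lift w' hS' (toFam r η₀ c₀)
  obtain ⟨η₁, φ₁, hφ₁, ⟨hf1, hf2, v₁, hv₁⟩⟩ := exists_memb hp hR₁ v₀
  obtain ⟨W, hW⟩ := hl φ₁ hφ₁
  obtain ⟨C₁, hC₁, -⟩ := C₀.exists_pull hn φ₁
  have h0 : app π' η₁ (res J' C₁.gen W - W) = 0 := by
    rw [map_sub, app_res, hW, toFam_natural, toFam_natural, C₁.gen_vert, Category.id_comp, sub_self]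
  obtain ⟨c, hc⟩ := exists_of_app_eq_zero w' hS' h0
  have hN : ∑ k ∈ Finset.range n, res Q (pw C₁.gen k) c = 0 := by
    refine app_injective w' hS' η₁ ?_
    rw [map_sum, map_zero]
    calc ∑ k ∈ Finset.range n, app i' η₁ (res Q (pw C₁.gen k) c)
        = ∑ k ∈ Finset.range n, (res J' (pw C₁.gen (k + 1)) W - res J' (pw C₁.gen k) W) :=
          Finset.sum_congr rfl fun k _ => by rw [app_res, hc, map_sub, ← res_comp]; rfl
      _ = 0 := by
          rw [sum_range_shift (fun k => res J' (pw C₁.gen k) W), C₁.pw_gen]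
          exact sub_self _
  obtain ⟨R₂, hR₂, hl⟩ := exists_local_lift w hS c
  obtain ⟨η₂, φ₂, hφ₂, ⟨hg1, hg2, v₂, hv₂⟩⟩ := exists_memb hp hR₂ v₁
  obtain ⟨d, hd⟩ := hl φ₂ hφ₂
  obtain ⟨C₂, hC₂, -⟩ := C₁.exists_pull hn φ₂
  have h1 : app π η₂ (∑ k ∈ Finset.range n, res J (pw C₂.gen k) d) = 0 := by
    rw [map_sum, Finset.sum_congr rfl (fun k _ => show app π η₂ (res J (pw C₂.gen k) d) =
      res Q φ₂ (res Q (pw C₁.gen k) c) by rw [app_res, hd, ← res_comp, ← res_comp, comp_pw hC₂ k]),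
      ← map_sum, hN, map_zero]
  obtain ⟨e, he⟩ := exists_of_app_eq_zero w hS h1
  obtain ⟨η₃, φ₃, ⟨hh1, hh2, v₃, hv₃⟩, ρ, hρ⟩ := exists_root_sec hp hn e v₂
  obtain ⟨C₃, hC₃, -⟩ := C₂.exists_pull hn φ₃
  let d' : sec J η₃ := res J φ₃ d - app i η₃ ρ
  have hd' : ∑ k ∈ Finset.range n, res J (pw C₃.gen k) d' = 0 := by
    simp only [d', map_sub, Finset.sum_sub_distrib]
    rw [Finset.sum_congr rfl (fun k _ => show res J (pw C₃.gen k) (res J φ₃ d) =
      res J φ₃ (res J (pw C₂.gen k) d) by rw [← res_comp, ← res_comp, comp_pw hC₃ k]),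
      Finset.sum_congr rfl (fun k _ => show res J (pw C₃.gen k) (app i η₃ ρ) = app i η₃ ρ by
        rw [← app_res, res_vert (pw_map C₃.gen_vert k)]), ← map_sum, ← he, ← app_res,
      Finset.sum_const, Finset.card_range, ← map_nsmul, hρ, sub_self]
  obtain ⟨b, hb⟩ := C₃.exists_coboundary hn hinv J d' hd'
  let φ : η₃ ⟶ η₁ := φ₃ ≫ φ₂
  have hC : C₃.gen ≫ φ = φ ≫ C₁.gen := by
    rw [show φ = φ₃ ≫ φ₂ from rfl, reassoc_of% hC₃, Category.assoc, hC₂]
  let W' : sec J' η₃ := res J' φ W - app i' η₃ (app π η₃ b)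
  have hW' : res J' C₃.gen W' = W' := by
    have e1 : app π η₃ d' = res Q φ c := by
      rw [show d' = res J φ₃ d - app i η₃ ρ from rfl, map_sub, app_res, hd, ← res_comp,
        app_comp_eq_zero w, sub_zero]
    have e2 : res J' C₃.gen (res J' φ W) - res J' φ W = app i' η₃ (res Q φ c) := by
      rw [app_res, hc, map_sub, ← res_comp, ← res_comp, hC]
    have e3 : res Q C₃.gen (app π η₃ b) - app π η₃ b = res Q φ c := by
      rw [← app_res, ← map_sub, hb, e1]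
    simp only [W', map_sub, ← app_res i' C₃.gen (app π η₃ b)]
    rw [← sub_eq_zero, show ∀ a b c d : sec J' η₃, a - b - (c - d) = a - c - (b - d) from
      fun a b c d => by abel, e2, ← map_sub, e3, sub_self]
  obtain ⟨t, ht⟩ := C₃.exists_fam hn hinv J' W' hW'
  refine ⟨η₃, 𝒢.p.map (φ ≫ φ₁) ≫ c₀, t, ?_, ?_⟩
  · rw [Functor.map_comp, Functor.map_comp, Category.assoc, Category.assoc]
    obtain ⟨a1, a2, -⟩ := reaches_comp hc1 hc2 rfl (g := 𝒢.p.map φ₁) ⟨hf1, hf2, v₁, hv₁⟩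
    have e1 : (𝒢.p.map φ₁ ≫ c₀).left v₁ = c₀.left v₀ := by
      rw [Over.comp_left, Scheme.Hom.comp_apply, hv₁]
    obtain ⟨b1, b2, -⟩ := reaches_comp a1 a2 e1 (g := 𝒢.p.map φ₂) ⟨hg1, hg2, v₂, hv₂⟩
    have e2 : (𝒢.p.map φ₂ ≫ 𝒢.p.map φ₁ ≫ c₀).left v₂ = c₀.left v₀ := by
      rw [Over.comp_left, Scheme.Hom.comp_apply, hv₂, e1]
    exact reaches_comp b1 b2 e2 (g := 𝒢.p.map φ₃) ⟨hh1, hh2, v₃, hv₃⟩
  · refine fam_ext P C₃.m rfl ?_
    rw [toFam_map, toFam_res, eqToHom_refl, Category.id_comp, ht]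
    rw [show app π' η₃ W' = res R φ (app π' η₁ W) by
      rw [show W' = res J' φ W - app i' η₃ (app π η₃ b) from rfl, map_sub, app_res,
        app_comp_eq_zero w', sub_zero],
      hW, toFam_natural, toFam_natural]
    simp [φ]

variable [StCoh.MorCont K₀ (FibCat.toSelf 𝒢)]

include P in
theorem isZero_Rpush_two (hn : 0 < n) (hinv : IsUnit (n : Γ(X, ⊤))) :
    IsZero ((StCoh.Rpush K₀ (FibCat.toSelf 𝒢) 2).obj (StCoh.Gm K₀ 𝒢)) := by
  let F := StCoh.push K₀ (FibCat.toSelf 𝒢)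
  haveI : PreservesFiniteLimits F :=
    have := (StCoh.pullPushAdj K₀ (FibCat.toSelf 𝒢)).rightAdjoint_preservesLimits
    inferInstance
  obtain ⟨J, Q, i, π, w, hJ, hS⟩ := exists_injective_seq (StCoh.Gm K₀ 𝒢)
  obtain ⟨J', R, i', π', w', hJ', hS'⟩ := exists_injective_seq Q
  obtain ⟨e₁⟩ := Groth.Agent.H15Site.HigherDirect.nonempty_rightDerived_succ_iso F hS 0
    (F.isZero_rightDerived_obj_injective_succ 0 J) (F.isZero_rightDerived_obj_injective_succ 1 J)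
  obtain ⟨e₂⟩ := Groth.Agent.H15Site.HigherDirect.nonempty_rightDerived_one_iso F hS'
    (F.isZero_rightDerived_obj_injective_succ 0 J')
  have : Epi (F.map π') := by
    refine (Sheaf.isLocallySurjective_iff_epi' _ _).1 ⟨fun {T} r => ?_⟩
    refine mem_of_reaches H14Fib.selfOver_fibGrpd fun z => ?_
    obtain ⟨η, c, t, h1, h2⟩ := exists_lift_two P hn hinv w hS w' hS' r z
    exact ⟨𝒢.p.obj η, c, ⟨t, h2⟩, h1⟩
  exact (((isZero_cokernel_of_epi (F.map π')).of_iso e₂).of_iso e₁.symm)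

end Groth.Agent.H14MuCoh
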