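import Groth.Agent.H14MuCoh.Gm
import Groth.Agent.H14Fib.Fp

/-!
# The direct image of the multiplicative group
-/

set_option autoImplicit false
set_option backward.isDefEq.respectTransparency false
set_option backward.isDefEq.respectTransparency.types false

universe u

open CategoryTheory CategoryTheory.Limits AlgebraicGeometry Opposite

noncomputable section

namespace Groth.Agent.H14MuCoh

open H14GerbeCoh

variable {X : Scheme.{u}} {𝒢 : AlgSt.Cat X} {n : ℕ}

local notation "K₀" => Scheme.fppfPrecoverage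

variable [StCoh.BaseCont K₀ 𝒢] [StCoh.BaseCont K₀ (self X)]
  [StCoh.MorCocont K₀ (FibCat.toSelf 𝒢)]

/-- The family of a point. -/
def famFun {T : Over X} (s : sec (StCoh.Gm K₀ (self X)) T) (ξ : 𝒢.obj) (h : 𝒢.p.obj ξ ⟶ T) :
    sec (StCoh.Gm K₀ 𝒢) ξ :=
  res (StCoh.Gm K₀ (self X)) h s

lemma famFun_natural {T : Over X} (s : sec (StCoh.Gm K₀ (self X)) T) ⦃ξ ζ : 𝒢.obj⦄ (g : ζ ⟶ ξ)
    (h : 𝒢.p.obj ξ ⟶ T) :
    res (StCoh.Gm K₀ 𝒢) g (famFun s ξ h) = famFun s ζ (𝒢.p.map g ≫ h) :=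
  (res_comp (StCoh.Gm K₀ (self X)) h (𝒢.p.map g) s).symm

/-- The section of the direct image attached to a point. -/
def famSec {T : Over X} (s : sec (StCoh.Gm K₀ (self X)) T) : sec (fPush (StCoh.Gm K₀ 𝒢)) T :=
  (existsUnique_toFam (StCoh.Gm K₀ 𝒢) T (famFun s) (famFun_natural s)).choose

lemma toFam_famSec {T : Over X} (s : sec (StCoh.Gm K₀ (self X)) T) (ξ : 𝒢.obj)
    (h : 𝒢.p.obj ξ ⟶ T) :
    toFam (famSec (𝒢 := 𝒢) s) ξ h = res (StCoh.Gm K₀ (self X)) h s :=
  (existsUnique_toFam (StCoh.Gm K₀ 𝒢) T (famFun s) (famFun_natural s)).choose_spec.1 ξ h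

lemma famSec_add {T : Over X} (a b : sec (StCoh.Gm K₀ (self X)) T) :
    famSec (𝒢 := 𝒢) (a + b) = famSec a + famSec b := by
  refine fPush_ext fun ξ h => ?_
  refine (toFam_famSec _ ξ h).trans ((map_add (res (StCoh.Gm K₀ (self X)) h) a b).trans ?_)
  refine Eq.trans ?_ (map_add (toFamHom (StCoh.Gm K₀ 𝒢) ξ h) (famSec a) (famSec b)).symm
  exact congrArg₂ (· + ·) (toFam_famSec a ξ h).symm (toFam_famSec b ξ h).symm

/-- The comparison map. -/
def famHom : StCoh.Gm K₀ (self X) ⟶ fPush (StCoh.Gm K₀ 𝒢) where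
  hom :=
    { app := fun T => AddCommGrpCat.ofHom (X := (StCoh.Gm K₀ (self X)).obj.obj T)
        (AddMonoidHom.mk' (M := sec (StCoh.Gm K₀ (self X)) T.unop) famSec famSec_add)
      naturality := fun T T' f => by
        ext s
        refine fPush_ext (F := StCoh.Gm K₀ 𝒢) fun ξ h => ?_
        change toFam (famSec (res (StCoh.Gm K₀ (self X)) f.unop s)) ξ h =
          toFam (res (fPush (StCoh.Gm K₀ 𝒢)) f.unop (famSec s)) ξ h
        rw [toFam_res, toFam_famSec, toFam_famSec]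
        exact (res_comp (StCoh.Gm K₀ (self X)) f.unop h s).symm }

lemma isIso_famHom (P : MuPoint 𝒢 n) : IsIso (famHom (𝒢 := 𝒢)) := by
  haveI : IsIso (famHom (𝒢 := 𝒢)).hom := by
    haveI : ∀ T, IsIso ((famHom (𝒢 := 𝒢)).hom.app T) := by
      intro T
      rw [ConcreteCategory.isIso_iff_bijective]
      obtain ⟨η, ⟨m⟩, e⟩ := exists_obj_over P T.unop
      refine ⟨fun a b h => ?_, fun t => ?_⟩
      · have h1 : toFam (famSec (𝒢 := 𝒢) a) η (eqToHom e) = toFam (famSec b) η (eqToHom e) :=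
          congrArg (fun q => toFam q η (eqToHom e)) (show famSec (𝒢 := 𝒢) a = famSec b from h)
        rw [toFam_famSec, toFam_famSec] at h1
        have := congrArg (res (StCoh.Gm K₀ (self X)) (eqToHom e.symm)) h1
        rwa [← res_comp, ← res_comp, show (eqToHom e.symm ≫ eqToHom e : T.unop ⟶ T.unop) = 𝟙 _ by
          simp, res_id, res_id] at this
      · refine ⟨res (StCoh.Gm K₀ (self X)) (eqToHom e.symm) (toFam t η (eqToHom e)),
          fam_ext P m e ?_⟩
        change toFam (famSec (res (StCoh.Gm K₀ (self X)) (eqToHom e.symm)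
          (toFam t η (eqToHom e)))) η (eqToHom e) = toFam t η (eqToHom e)
        refine (toFam_famSec _ η (eqToHom e)).trans ?_
        rw [← res_comp]
        refine (congrArg (fun k => res (StCoh.Gm K₀ (self X)) k _)
          (show eqToHom e ≫ eqToHom e.symm = 𝟙 (𝒢.p.obj η) by simp)).trans ?_
        exact res_id (StCoh.Gm K₀ (self X)) _
    exact NatIso.isIso_of_isIso_app _
  exact (isIso_iff_of_reflects_iso _ (sheafToPresheaf _ _)).1 this

include 𝒢 in
theorem nonempty_push_Gm (P : MuPoint 𝒢 n) :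
    Nonempty (fPush (StCoh.Gm K₀ 𝒢) ≅ StCoh.Gm K₀ (self X)) := by
  have := isIso_famHom (𝒢 := 𝒢) P
  exact ⟨(asIso (famHom (𝒢 := 𝒢))).symm⟩

end Groth.Agent.H14MuCoh
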